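import Cfsg.Agent.H519.TDU.Fin

/-!
# S2464: `³D₄(5)`, `³D₄(7)`, `³D₄(17)` (helper519)
-/

set_option autoImplicit false
set_option maxRecDepth 100000

namespace Cfsg.Agent.H519.TDU

open Cfsg.Lie Cfsg.Agent.H777.T6

variable {K : Type} [Field K] [Fintype K]

/-! ### `q = 5` -/

def l5 : List (ℕ × ℕ) := [(2, 6), (3, 4), (5, 12), (7, 2), (31, 2)]
def one5 : List ℕ := [1, 360000, 961000, 4687200, 9375000, 61027344, 122062500, 244140625, 1589253750, 15503906250, 9009375000000, 14899253906250000]
def neg5 : List ℕ := [600, 7812, 15625, 992250, 576600000, 5625000000, 15015625000, 73237500000, 953552250000, 1907226562500, 24832089843750]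

theorem chk_five : chk (PP 601 one5 neg5) l5 1 = true := by decide +kernel
theorem chk2_five : chk2 35817806390625000000 244140625 5 31 (prs one5 neg5) = true := by decide +kernel

theorem sieve_five : Sieve 35817806390625000000 (5 ^ 12) 601 5 31 := by
  have h : (5 : ℕ) ^ 12 = 244140625 := by norm_num
  rw [h]
  refine sieve_of (l := l5) (L1 := one5) (L2 := neg5) (by norm_num) ?_ ?_ chk_five chk2_five
  · decide +kernel
  · intro x hx
    unfold l5 at hx
    simp only [List.mem_cons, List.not_mem_nil, or_false] at hx
    rcases hx with rfl | rfl | rfl | rfl | rfl <;> norm_num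

theorem t6_five (hK : Fintype.card K = 5 ^ 3) : T6 ↥(twistedD4 K 5) := by
  have := Fact.mk (show Nat.Prime 5 by norm_num)
  have := Fact.mk (show Nat.Prime 31 by norm_num)
  exact t6_gen (p := 5) (r := 31) (s := 150) (N := 601) (M := 35817806390625000000) (by norm_num) (by norm_num) (by norm_num) hK (by norm_num)
    (by norm_num) (by norm_num) (by norm_num) (by norm_num) (by norm_num) ⟨406224, by norm_num⟩ (by norm_num)
    (fact_eq (m := 146709734976) (by norm_num) (by norm_num) (by norm_num))
    (fact_eq (m := 37271390625000000) (by norm_num) (by norm_num) (by norm_num)) sieve_five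

/-! ### `q = 7` -/

def l7 : List (ℕ × ℕ) := [(2, 8), (3, 4), (7, 12), (19, 2), (43, 2)]
def one7 : List ℕ := [1, 5531904, 20059326, 138354048, 276710448, 3460262976, 6920584776, 13841287201, 173085237612, 2387642218976, 47894493641802970176]
def neg7 : List ℕ := [2352, 58824, 117649, 20294624, 650822973696, 2359959644574, 16277215393152, 407096478863424, 814199878311624, 20363305119814188]

theorem chk_seven : chk (PP 2353 one7 neg7) l7 1 = true := by decide +kernel
theorem chk2_seven : chk2 450782974156649555296512 13841287201 7 19 (prs one7 neg7) = true := by decide +kernel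

theorem sieve_seven : Sieve 450782974156649555296512 (7 ^ 12) 2353 7 19 := by
  have h : (7 : ℕ) ^ 12 = 13841287201 := by norm_num
  rw [h]
  refine sieve_of (l := l7) (L1 := one7) (L2 := neg7) (by norm_num) ?_ ?_ chk_seven chk2_seven
  · decide +kernel
  · intro x hx
    unfold l7 at hx
    simp only [List.mem_cons, List.not_mem_nil, or_false] at hx
    rcases hx with rfl | rfl | rfl | rfl | rfl <;> norm_num

theorem t6_seven (hK : Fintype.card K = 7 ^ 3) : T6 ↥(twistedD4 K 7) := by
  have := Fact.mk (show Nat.Prime 7 by norm_num)
  have := Fact.mk (show Nat.Prime 19 by norm_num)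
  exact t6_gen (p := 7) (r := 19) (s := 588) (N := 2353) (M := 450782974156649555296512) (by norm_num) (by norm_num) (by norm_num) hK (by norm_num)
    (by norm_num) (by norm_num) (by norm_num) (by norm_num) (by norm_num) ⟨5882400, by norm_num⟩ (by norm_num)
    (fact_eq (m := 32567995130112) (by norm_num) (by norm_num) (by norm_num))
    (fact_eq (m := 1248706299602907355392) (by norm_num) (by norm_num) (by norm_num)) sieve_seven

/-! ### `q = 17` -/

def l17 : List (ℕ × ℕ) := [(2, 10), (3, 6), (7, 2), (13, 2), (17, 12), (307, 2)]
def one17 : List ℕ := [1, 6927565824, 59269803136, 1004509029888, 2009018143008, 145655547238656, 291311106546096, 582622237229761, 42240614447638152, 1431794207286075906, 84862160797110895782572841216]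
def neg17 : List ℕ := [83232, 12068784, 24137569, 59318078274, 167214598078841856, 1430628962811616384, 24246406020044662272, 3515770821705818667264, 7031541934722743880624, 1019585745832262780932488]

theorem chk_seventeen : chk (PP 83233 one17 neg17) l17 1 = true := by decide +kernel
theorem chk2_seventeen : chk2 28253328918503724754683541171725312 582622237229761 17 307 (prs one17 neg17) = true := by decide +kernel

theorem sieve_seventeen : Sieve 28253328918503724754683541171725312 (17 ^ 12) 83233 17 307 := by
  have h : (17 : ℕ) ^ 12 = 582622237229761 := by norm_num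
  rw [h]
  refine sieve_of (l := l17) (L1 := one17) (L2 := neg17) (by norm_num) ?_ ?_ chk_seventeen chk2_seventeen
  · decide +kernel
  · intro x hx
    unfold l17 at hx
    simp only [List.mem_cons, List.not_mem_nil, or_false] at hx
    rcases hx with rfl | rfl | rfl | rfl | rfl | rfl <;> norm_num

theorem t6_seventeen (hK : Fintype.card K = 17 ^ 3) : T6 ↥(twistedD4 K 17) := by
  have := Fact.mk (show Nat.Prime 17 by norm_num)
  have := Fact.mk (show Nat.Prime 307 by norm_num)
  exact t6_gen (p := 17) (r := 307) (s := 20808) (N := 83233) (M := 28253328918503724754683541171725312) (by norm_num) (by norm_num) (by norm_num) hK (by norm_num)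
    (by norm_num) (by norm_num) (by norm_num) (by norm_num) (by norm_num) ⟨6999894720, by norm_num⟩ (by norm_num)
    (fact_eq (m := 48493392653260219392) (by norm_num) (by norm_num) (by norm_num))
    (fact_eq (m := 299773248718858818180389618688) (by norm_num) (by norm_num) (by norm_num)) sieve_seventeen

end Cfsg.Agent.H519.TDU
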