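import Cfsg.Agent.H678.CCData
import Cfsg.Agent.H713.Engine
import Cfsg.Agent.H686.CharKit
import Cfsg.Agent.Characters.ClassMul
import Cfsg.Agent.SmallSimple.DihedralNormalizer
import Cfsg.Agent.S0141
import Cfsg.Agent.S0142
import Cfsg.Agent.S0138
import Cfsg.Agent.S0135

/-!
# A CC-subgroup with automizer of order 4 and a pair `(x, u z)` (helper519, for S2464, `³D₄(q)`, `q = 5, 7, 17`)

`A` a CC-subgroup with `|N(A) : A| = 4`, `St` of degree the `p`-part of `|G|`, `u` a `p`-element centralizing a Sylow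
`p`-subgroup, `z` of order `r` commuting with `u`, `r ^ 2 ∥ |G|`. Under a condition on the degrees (`Sieve`), every
`g ≠ 1` is the product of a conjugate of `x ∈ A#` and a conjugate of `u z`.
-/

set_option autoImplicit false

open scoped ComplexConjugate
open Cfsg Subgroup

namespace Cfsg.Agent.H519.TDU

open Cfsg.Agent.Characters Cfsg.Agent.Characters.Core Cfsg.Agent.H678.CCExact Cfsg.Agent.H686.CharKit
  Cfsg.Agent.Characters.CCCounting

universe u

variable {G : Type u} [Group G]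

section basic

variable [Finite G]

theorem col_zero [Fintype (IrrCharacter G)] {g h : G} (hne : ¬ IsConj g h) :
    ∑ χ : IrrCharacter G, (χ : G → ℂ) g * conj ((χ : G → ℂ) h) = 0 := by
  classical
  rw [col_orth g h, if_neg hne]

/-- the degree divides the order -/
theorem deg_dvd (χ : IrrCharacter G) : charDegree (χ : G → ℂ) ∣ Nat.card G := by
  have h1 := charDegree_irr χ
  obtain ⟨n, ρ, hρ, h⟩ := χ.2
  rw [← h, Representation.char_one] at h1
  have h2 : charDegree (χ : G → ℂ) = Module.finrank ℂ (Fin n → ℂ) := by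
    rw [← h]
    exact_mod_cast h1
  rw [h2]
  exact S0135.result ρ

/-- the central character is integral -/
theorem centralInt (χ : IrrCharacter G) (g : G) :
    IsIntegral ℤ (((centralizer ({g} : Set G)).index : ℂ) * (χ : G → ℂ) g / (χ : G → ℂ) 1) := by
  obtain ⟨n, ρ, hρ, h⟩ := χ.2
  have h1 := S0141.result ρ g
  rw [← h, Representation.char_one]
  exact h1

/-- Burnside -/
theorem burn (χ : IrrCharacter G) {g : G}
    (hc : Nat.Coprime (charDegree (χ : G → ℂ)) (centralizer ({g} : Set G)).index) :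
    (χ : G → ℂ) g = 0 ∨ ‖(χ : G → ℂ) g‖ = (charDegree (χ : G → ℂ) : ℝ) := by
  have h0 := charDegree_irr χ
  obtain ⟨n, ρ, hρ, h⟩ := χ.2
  rw [← h, Representation.char_one] at h0
  have h2 : charDegree (χ : G → ℂ) = Module.finrank ℂ (Fin n → ℂ) := by
    rw [← h]
    exact_mod_cast h0
  rw [h2] at hc ⊢
  have := S0142.result ρ g hc
  rw [← h]
  exact this

/-- a nonprincipal irreducible character of a nonabelian simple group: `|χ(g)| = χ(1)` only for `g = 1` -/
theorem norm_lt [IsSimpleGroup G] (hna : ∃ a b : G, a * b ≠ b * a) (χ : IrrCharacter G) (hχ : (χ : G → ℂ) ≠ 1) {g : G}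
    (hg : g ≠ 1) : ‖(χ : G → ℂ) g‖ ≠ (charDegree (χ : G → ℂ) : ℝ) := by
  classical
  have := Fintype.ofFinite G
  intro hn
  have h0 := charDegree_irr χ
  obtain ⟨n, ρ, hρ, h⟩ := χ.2
  rw [← h, Representation.char_one] at h0
  have h2 : charDegree (χ : G → ℂ) = Module.finrank ℂ (Fin n → ℂ) := by
    rw [← h]
    exact_mod_cast h0
  rw [h2, ← h] at hn
  obtain ⟨w, hw⟩ := (S0138.result ρ g).1 hn
  -- the commutators `[g, k]` are in the kernel
  have hk : ∀ k : G, ρ (g * k * g⁻¹ * k⁻¹) = LinearMap.id := by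
    intro k
    have e1 : ρ (g * k * g⁻¹ * k⁻¹) = ρ (g * k * g⁻¹) * ρ k⁻¹ := map_mul ρ _ _
    have e2 : ρ (g * k * g⁻¹) = ρ g * ρ k * ρ g⁻¹ := by rw [map_mul, map_mul]
    have e3 : ρ g * ρ k = ρ k * ρ g := by
      rw [hw]
      ext v
      simp
    rw [e1, e2, e3, mul_assoc (ρ k), ← map_mul, mul_inv_cancel, map_one, mul_one, ← map_mul, mul_inv_cancel, map_one]
    rfl
  have hchar : ∀ k : G, (χ : G → ℂ) (g * k * g⁻¹ * k⁻¹) = (χ : G → ℂ) 1 := by
    intro k
    rw [← h, Representation.character, Representation.character, hk k, map_one]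
    rfl
  have hcen : ∀ k : G, g * k = k * g := by
    intro k
    have h3 := Cfsg.Agent.SmallSimple.DihedralNormalizer.eq_one_of_apply_eq χ.2 hχ (hchar k)
    have h4 : g * k * g⁻¹ * k⁻¹ * (k * g) = g * k := by group
    rw [h3, one_mul] at h4
    exact h4.symm
  have hz : g ∈ center G := Subgroup.mem_center_iff.2 fun k => (hcen k).symm
  rcases (inferInstance : (center G).Normal).eq_bot_or_eq_top with h5 | h5
  · rw [h5, Subgroup.mem_bot] at hz
    exact hg hz
  · obtain ⟨a, b, hab⟩ := hna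
    exact hab ((Subgroup.mem_center_iff.1 (h5 ▸ Subgroup.mem_top a) b).symm)

/-- **Two characters.** -/
theorem prod_of_two [IsSimpleGroup G] {x y : G} (hxy : ¬ IsConj x y) (B : IrrCharacter G) (hB : (B : G → ℂ) ≠ 1)
    (hreal : conj ((B : G → ℂ) x) = (B : G → ℂ) x)
    (h : ∀ χ : IrrCharacter G, (χ : G → ℂ) x = 0 ∨ (χ : G → ℂ) y = 0 ∨ (χ : G → ℂ) = 1 ∨ χ = B) {g : G} (hg : g ≠ 1) :
    ∃ u v : G, g = (u * x * u⁻¹) * (v * y * v⁻¹) := by
  classical
  have := Fintype.ofFinite G
  have hfin := finite_irr (G := G)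
  have : Fintype (IrrCharacter G) := Fintype.ofFinite _
  obtain ⟨I, hI⟩ : ∃ I : IrrCharacter G, I = ⟨1, isIrr_one⟩ := ⟨_, rfl⟩
  have hI1 : ∀ k : G, (I : G → ℂ) k = 1 := fun k => by rw [hI]; rfl
  have hIB : I ≠ B := by
    rintro rfl
    exact hB (by rw [hI])
  have hsum : ∀ F : IrrCharacter G → ℂ, (∀ χ : IrrCharacter G, (χ : G → ℂ) x = 0 ∨ (χ : G → ℂ) y = 0 → F χ = 0) →
      ∑ χ : IrrCharacter G, F χ = F I + F B := by
    intro F hF
    rw [← Finset.sum_pair hIB]
    symm
    apply Finset.sum_subset (Finset.subset_univ _)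
    intro χ _ hχ
    apply hF
    rcases h χ with h1 | h1 | h1 | h1
    · exact Or.inl h1
    · exact Or.inr h1
    · exfalso
      apply hχ
      rw [Finset.mem_insert]
      left
      apply Subtype.ext
      rw [h1, hI]
    · exfalso
      apply hχ
      rw [Finset.mem_insert, Finset.mem_singleton]
      exact Or.inr h1
  have h1 := col_zero hxy
  rw [hsum _ (fun χ hχ => by
    rcases hχ with h2 | h2
    · rw [h2, zero_mul]
    · rw [h2, map_zero, mul_zero]), hI1, hI1, map_one, mul_one] at h1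
  have h2 : 1 + (B : G → ℂ) x * (B : G → ℂ) y = 0 := by
    have h3 := congrArg conj h1
    rw [map_add, map_mul, map_one, map_zero, Complex.conj_conj, hreal] at h3
    exact h3
  have h3 := Cfsg.Agent.Characters.ClassMul.card_conj_mul_conj x y g
  rw [hsum _ (fun χ hχ => by
    rcases hχ with h2 | h2
    · rw [h2, zero_mul, zero_mul, zero_div]
    · rw [h2, mul_zero, zero_mul, zero_div]), hI1, hI1, hI1, hI1, map_one, mul_one, mul_one, div_one,
    show (B : G → ℂ) x * (B : G → ℂ) y = -1 by linear_combination h2] at h3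
  have hB1 : (B : G → ℂ) 1 ≠ 0 := isIrr_apply_one_ne_zero B.2
  have h4 : (1 : ℂ) + -1 * conj ((B : G → ℂ) g) / (B : G → ℂ) 1 ≠ 0 := by
    intro h5
    have h6 : conj ((B : G → ℂ) g) = (B : G → ℂ) 1 := by
      field_simp at h5
      linear_combination -h5
    have h7 : (B : G → ℂ) g = (B : G → ℂ) 1 := by
      have h8 := congrArg conj h6
      rw [Complex.conj_conj, ← charDegree_irr, Complex.conj_natCast] at h8
      rw [h8, charDegree_irr]
    exact hg (Cfsg.Agent.SmallSimple.DihedralNormalizer.eq_one_of_apply_eq B.2 hB h7)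
  have h5 : Nat.card {p : G × G // p.1 * x * p.1⁻¹ * (p.2 * y * p.2⁻¹) = g} ≠ 0 := by
    intro h6
    rw [h6, Nat.cast_zero] at h3
    rcases mul_eq_zero.1 h3.symm with h7 | h7
    · exact Nat.card_pos.ne' (by exact_mod_cast h7)
    · exact h4 h7
  obtain ⟨⟨⟨u, v⟩, h6⟩⟩ := (Nat.card_ne_zero.1 h5).1
  exact ⟨u, v, h6.symm⟩

end basic

end Cfsg.Agent.H519.TDU
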