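import Cfsg.Agent.H519.TDU.DegA

/-!
# The degree lemma for `³D₄(q)` (helper519)
-/

set_option autoImplicit false

namespace Cfsg.Agent.H519.TDU

theorem split {p m b B : ℕ} (hp : p.Prime) (hb0 : b ≠ 0) (hb : b ∣ p ^ m * B) :
    ∃ j b' : ℕ, b = p ^ j * b' ∧ ¬ p ∣ b' ∧ b' ∣ B := by
  obtain ⟨j, b', h1, h2⟩ := Nat.exists_eq_pow_mul_and_not_dvd hb0 p hp.ne_one
  refine ⟨j, b', h2, h1, ?_⟩
  have h3 : b' ∣ p ^ m * B := (Dvd.intro_left _ h2.symm).trans hb
  exact (Nat.Coprime.pow_right m ((hp.coprime_iff_not_dvd.2 h1).symm)).dvd_of_dvd_mul_left h3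

theorem coprime_part {p m b B : ℕ} (hp : p.Prime) (h : ¬ p ∣ b) (hb : b ∣ p ^ m * B) : b ∣ B :=
  (Nat.Coprime.pow_right m ((hp.coprime_iff_not_dvd.2 h).symm)).dvd_of_dvd_mul_left hb

/-- `q ^ e ∣ p ^ j` or `2 p ^ j ≤ q ^ e` -/
theorem pow_alt {p a q e j : ℕ} (hp : p.Prime) (hq : q = p ^ a) : q ^ e ∣ p ^ j ∨ 2 * p ^ j ≤ q ^ e := by
  rw [hq, ← pow_mul]
  rcases Nat.lt_or_ge j (a * e) with h | h
  · right
    calc 2 * p ^ j ≤ p * p ^ j := Nat.mul_le_mul_right _ hp.two_le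
      _ = p ^ (j + 1) := by rw [pow_succ, mul_comm]
      _ ≤ p ^ (a * e) := Nat.pow_le_pow_right hp.pos h
  · left
    exact pow_dvd_pow p h

/-- `q ^ 2 ∣ t` if `2 t = q ^ 3 s` -/
theorem sq_dvd {q t s : ℕ} (h : 2 * t = q ^ 3 * s) : q ^ 2 ∣ t := by
  rcases Nat.even_or_odd q with ⟨m, hm⟩ | ho
  · have h1 : 2 * t = 2 * (q ^ 2 * (m * s)) := by
      rw [h]
      have : q ^ 3 = q ^ 2 * (2 * m) := by rw [show 2 * m = q by omega]; ring
      rw [this]; ring
    exact ⟨m * s, Nat.eq_of_mul_eq_mul_left (by norm_num) h1⟩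
  · have h1 : q ^ 2 ∣ 2 * t := ⟨q * s, by rw [h]; ring⟩
    exact (Nat.Coprime.pow_left 2 (Nat.coprime_two_right.2 ho)).dvd_of_dvd_mul_left h1

section

variable {q N : ℤ}

theorem E1 {k l f : ℤ} (hf : f = 1 ∨ f = -1) (hN : N = q ^ 4 - q ^ 2 + 1) (hN0 : N ≠ 0)
    (h : (f + k * N) * (4 * f + l * N) = (q ^ 6 - 1) ^ 2) :
    k * l * N + f * (l + 4 * k) = (q ^ 2 + 1) ^ 2 * N - 4 * (q ^ 2 + 1) := by
  have e : q ^ 6 - 1 = (q ^ 2 + 1) * N - 2 := by rw [hN]; ring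
  rw [e] at h
  have hff : f * f = 1 := by rcases hf with rfl | rfl <;> norm_num
  have h2 : N * (k * l * N + f * (l + 4 * k)) = N * ((q ^ 2 + 1) ^ 2 * N - 4 * (q ^ 2 + 1)) := by
    linear_combination h - 4 * hff
  exact mul_left_cancel₀ hN0 h2

/-- `N` is odd -/
theorem N_odd (hN : N = q ^ 4 - q ^ 2 + 1) : IsCoprime N 2 := by
  rcases Int.even_or_odd' q with ⟨m, hm | hm⟩
  · refine ⟨1, -(8 * m ^ 4 - 2 * m ^ 2), ?_⟩
    rw [hN, hm]; ring
  · refine ⟨1, -((8 * m ^ 4 + 16 * m ^ 3 + 12 * m ^ 2 + 4 * m) - (2 * m ^ 2 + 2 * m)), ?_⟩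
    rw [hN, hm]; ring

/-- the complementary divisor modulo `N` -/
theorem compl_mod {b c f : ℤ} (hf : f = 1 ∨ f = -1) (hN : N = q ^ 4 - q ^ 2 + 1) (hb : N ∣ b - f)
    (h : b * c = (q ^ 6 - 1) ^ 2) : N ∣ c - 4 * f := by
  have e : q ^ 6 - 1 = (q ^ 2 + 1) * N - 2 := by rw [hN]; ring
  obtain ⟨k, hk⟩ := hb
  have hff : f * f = 1 := by rcases hf with rfl | rfl <;> norm_num
  refine ⟨f * ((q ^ 2 + 1) ^ 2 * N - 4 * (q ^ 2 + 1)) - f * k * c, ?_⟩
  have h1 : b = f + N * k := by linear_combination hk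
  rw [h1, e] at h
  linear_combination f * h - c * hff

theorem compl_mod' {b c f : ℤ} (hf : f = 1 ∨ f = -1) (hN : N = q ^ 4 - q ^ 2 + 1) (hb : N ∣ b - 4 * f)
    (h : b * c = (q ^ 6 - 1) ^ 2) : N ∣ c - f := by
  have e : q ^ 6 - 1 = (q ^ 2 + 1) * N - 2 := by rw [hN]; ring
  obtain ⟨k, hk⟩ := hb
  have hff : f * f = 1 := by rcases hf with rfl | rfl <;> norm_num
  have h4 : N ∣ 2 * (2 * (c - f)) := by
    refine ⟨f * ((q ^ 2 + 1) ^ 2 * N - 4 * (q ^ 2 + 1)) - f * k * c, ?_⟩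
    have h1 : b = 4 * f + N * k := by linear_combination hk
    rw [h1, e] at h
    linear_combination f * h - 4 * c * hff
  exact (N_odd hN).dvd_of_dvd_mul_left ((N_odd hN).dvd_of_dvd_mul_left h4)

end

theorem eq_of_dvd_lt {m t : ℤ} (h : m ∣ t) (h0 : 0 < t) (h1 : t < m) : False := by
  obtain ⟨n, hn⟩ := h
  exact no_mul (n := n) (by rw [mul_comm]; exact hn.symm) h0 h1

theorem coef_nonneg {l N c t : ℤ} (hN : 5 ≤ N) (hc : c ≤ 4) (ht : 0 < t) (h : t = c + l * N) : 0 ≤ l := by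
  by_contra h6
  have h7 : l ≤ -1 := by omega
  have h8 : l * N ≤ -1 * N := mul_le_mul_of_nonneg_right h7 (by linarith)
  linarith

theorem coef_pos {l N c t : ℤ} (hN : 0 < N) (hc : c ≤ 0) (ht : 0 < t) (h : t = c + l * N) : 1 ≤ l := by
  by_contra h6
  have h7 : l ≤ 0 := by omega
  have h8 : l * N ≤ 0 * N := mul_le_mul_of_nonneg_right h7 hN.le
  linarith

theorem mul_ge {k N : ℤ} (hk : 1 ≤ k) (hN : 0 ≤ N) : N ≤ k * N := by nlinarith

theorem pows {Z : ℤ} (h : 64 ≤ Z) : 64 * Z ≤ Z ^ 2 ∧ 64 * Z ^ 2 ≤ Z ^ 3 ∧ 64 * Z ^ 3 ≤ Z ^ 4 := by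
  have h0 : 0 ≤ Z := by linarith
  have e2 : Z ^ 2 = Z * Z := by ring
  have e3 : Z ^ 3 = Z * Z ^ 2 := by ring
  have e4 : Z ^ 4 = Z * Z ^ 3 := by ring
  refine ⟨?_, ?_, ?_⟩
  · rw [e2]; exact mul_le_mul_of_nonneg_right h h0
  · rw [e3]; exact mul_le_mul_of_nonneg_right h (pow_nonneg h0 2)
  · rw [e4]; exact mul_le_mul_of_nonneg_right h (pow_nonneg h0 3)

theorem sq_le4 {Z : ℤ} (h : 64 ≤ Z) : (Z ^ 2 - 1) ^ 2 ≤ Z ^ 4 := by
  obtain ⟨h1, -, -⟩ := pows h
  have e : Z ^ 4 - (Z ^ 2 - 1) ^ 2 = 2 * Z ^ 2 - 1 := by ring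
  linarith

theorem sq_pos1 {Z : ℤ} (h : 64 ≤ Z) : 0 < Z ^ 2 - 1 := by
  obtain ⟨h1, -, -⟩ := pows h
  linarith

theorem N_pos {Q : ℤ} (h : 4 ≤ Q) : 0 < Q ^ 4 - Q ^ 2 + 1 := by
  have : Q ^ 4 - Q ^ 2 + 1 = Q ^ 2 * (Q ^ 2 - 1) + 1 := by ring
  rw [this]
  have h1 : 0 ≤ Q ^ 2 - 1 := by nlinarith
  have := mul_nonneg (sq_nonneg Q) h1
  linarith

set_option maxHeartbeats 8000000 in
/-- **The degree lemma** -/
theorem deg_td {p a q N b d e3 : ℕ} (hp : p.Prime) (ha : 0 < a) (hq : q = p ^ a) (h4 : 4 ≤ q) (hN : N + q ^ 2 = q ^ 4 + 1)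
    (h3 : 2 * e3 = q ^ 3 * (q ^ 3 + 1) ^ 2) {f ε : ℤ} (hf : f = 1 ∨ f = -1) (hε : ε = 1 ∨ ε = -1)
    (hb : b ∣ q ^ 12 * (q ^ 6 - 1) ^ 2) (hd : d ∣ q ^ 12 * (q ^ 6 - 1) ^ 2) (hbN : (N : ℤ) ∣ b - f)
    (h : (1 : ℤ) + (q ^ 12 : ℕ) - e3 + f * b = ε * d) : 2 * b = q ^ 3 * (q ^ 3 - 1) ^ 2 ∧ d = (q ^ 6 - 1) ^ 2 := by
  have hff : f * f = 1 := by rcases hf with rfl | rfl <;> norm_num
  have hεε : ε * ε = 1 := by rcases hε with rfl | rfl <;> norm_num
  -- casts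
  have hq6 : 1 ≤ q ^ 6 := Nat.one_le_pow _ _ (by omega)
  have hq3 : 1 ≤ q ^ 3 := Nat.one_le_pow _ _ (by omega)
  obtain ⟨B, hB⟩ : ∃ B : ℕ, B = (q ^ 6 - 1) ^ 2 := ⟨_, rfl⟩
  have hBz : (B : ℤ) = ((q : ℤ) ^ 6 - 1) ^ 2 := by rw [hB]; push_cast [Nat.cast_sub hq6]; ring
  rw [← hB] at hb hd ⊢
  obtain ⟨Q, hQ⟩ : ∃ Q : ℤ, Q = (q : ℤ) := ⟨_, rfl⟩
  have hQ4 : 4 ≤ Q := by rw [hQ]; exact_mod_cast h4
  obtain ⟨Z, hZ⟩ : ∃ Z : ℤ, Z = Q ^ 3 := ⟨_, rfl⟩
  have hy16 : 16 ≤ Q ^ 2 := by nlinarith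
  have hZy : 4 * Q ^ 2 ≤ Z := by
    rw [hZ]
    have : Q ^ 3 = Q * Q ^ 2 := by ring
    rw [this]
    nlinarith
  have hZ64 : 64 ≤ Z := by linarith
  have hBZ : (B : ℤ) = (Z ^ 2 - 1) ^ 2 := by rw [hBz, hZ, ← hQ]; ring
  have hNz : (N : ℤ) = Q ^ 4 - Q ^ 2 + 1 := by
    have : ((N + q ^ 2 : ℕ) : ℤ) = ((q ^ 4 + 1 : ℕ) : ℤ) := by rw [hN]
    push_cast at this
    rw [hQ]
    linarith
  have hNpos : 0 < (N : ℤ) := by rw [hNz]; exact N_pos hQ4
  have hN0 : (N : ℤ) ≠ 0 := hNpos.ne'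
  have hN3 : 3 * Z ≤ (N : ℤ) - 1 := by
    rw [hNz, hZ]
    have : Q ^ 4 - Q ^ 2 + 1 - 1 - 3 * Q ^ 3 = Q ^ 2 * (Q * (Q - 3) - 1) := by ring
    have h5 : 0 ≤ Q * (Q - 3) - 1 := by nlinarith
    have h6 : 0 ≤ Q ^ 2 * (Q * (Q - 3) - 1) := mul_nonneg (sq_nonneg _) h5
    linarith
  have he3 : 2 * (e3 : ℤ) = Z * (Z + 1) ^ 2 := by
    have : ((2 * e3 : ℕ) : ℤ) = ((q ^ 3 * (q ^ 3 + 1) ^ 2 : ℕ) : ℤ) := by rw [h3]
    push_cast at this
    rw [hZ, hQ]
    exact this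
  have hq12 : ((q ^ 12 : ℕ) : ℤ) = Z ^ 4 := by rw [hZ, hQ]; push_cast; ring
  rw [hq12] at h
  obtain ⟨M, hM⟩ : ∃ M : ℤ, M = 1 + Z ^ 4 - e3 := ⟨_, rfl⟩
  have hM2 : 2 * M = 2 * Z ^ 4 - Z ^ 3 - 2 * Z ^ 2 - Z + 2 := by rw [hM]; linarith [he3]
  have hMe : M + f * b = ε * d := by rw [hM]; linarith
  have hyM : Q ^ 2 ∣ M - 1 := by
    have h5 : (q ^ 2 : ℕ) ∣ e3 := sq_dvd h3
    have h6 : ((q ^ 2 : ℕ) : ℤ) ∣ (e3 : ℤ) := Int.natCast_dvd_natCast.2 h5
    have h7 : Q ^ 2 ∣ (e3 : ℤ) := by rw [hQ]; exact_mod_cast h6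
    have h8 : Q ^ 2 ∣ Z ^ 4 := ⟨Q ^ 10, by rw [hZ]; ring⟩
    have h9 : M - 1 = Z ^ 4 - e3 := by rw [hM]; ring
    rw [h9]
    exact dvd_sub h8 h7
  have hpQ : (p : ℤ) ∣ Q := by
    rw [hQ, hq]
    exact_mod_cast dvd_pow_self p ha.ne'
  have hpy : (p : ℤ) ∣ Q ^ 2 := hpQ.trans (dvd_pow_self Q two_ne_zero)
  have hpone : ¬ (p : ℤ) ∣ 1 := fun h5 => by
    have h6 : (p : ℕ) ∣ 1 := by exact_mod_cast h5
    exact hp.one_lt.ne' (Nat.dvd_one.1 h6)
  have hB0 : B ≠ 0 := by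
    intro h5
    rw [h5, Nat.cast_zero] at hBZ
    have : 0 < (Z ^ 2 - 1) ^ 2 := by
      have : 0 < Z ^ 2 - 1 := sq_pos1 hZ64
      positivity
    linarith
  have hpos : 0 < q ^ 12 * B := Nat.mul_pos (Nat.pow_pos (by omega)) (Nat.pos_of_ne_zero hB0)
  have hb0 : b ≠ 0 := fun h5 => by rw [h5] at hb; exact hpos.ne' (Nat.eq_zero_of_zero_dvd hb)
  have hd0 : d ≠ 0 := fun h5 => by rw [h5] at hd; exact hpos.ne' (Nat.eq_zero_of_zero_dvd hd)
  have hbp : (0 : ℤ) < b := by exact_mod_cast Nat.pos_of_ne_zero hb0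
  have hdp : (0 : ℤ) < d := by exact_mod_cast Nat.pos_of_ne_zero hd0
  have hq12p : q ^ 12 = p ^ (a * 12) := by rw [hq, ← pow_mul]
  rw [hq12p] at hb hd
  -- the conclusion from `d = B`
  have concl : (d : ℤ) = B → ε = 1 → 2 * b = q ^ 3 * (q ^ 3 - 1) ^ 2 ∧ d = B := by
    intro h5 h6
    refine ⟨?_, by exact_mod_cast h5⟩
    have h7 : 2 * (f * b) = Z * (Z - 1) ^ 2 := by
      rw [h5, h6, one_mul, hBZ] at hMe
      linarith [hMe, hM2, (by ring : 2 * (Z ^ 2 - 1) ^ 2 - (2 * Z ^ 4 - Z ^ 3 - 2 * Z ^ 2 - Z + 2) = Z * (Z - 1) ^ 2)]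
    have h8 : 0 < Z * (Z - 1) ^ 2 := mul_pos (by linarith) (pow_pos (by linarith) 2)
    have h9 : f = 1 := by
      rcases hf with h9 | h9
      · exact h9
      · exfalso
        rw [h9] at h7
        linarith
    rw [h9, one_mul, hZ, hQ] at h7
    have h10 : ((2 * b : ℕ) : ℤ) = ((q ^ 3 * (q ^ 3 - 1) ^ 2 : ℕ) : ℤ) := by
      push_cast [Nat.cast_sub hq3]
      exact h7
    exact_mod_cast h10
  by_cases hpb : p ∣ b
  · -- Case 2
    have hpd : ¬ p ∣ d := by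
      intro h5
      apply hpone
      have h6 : (p : ℤ) ∣ (d : ℤ) := Int.natCast_dvd_natCast.2 h5
      have h7 : (p : ℤ) ∣ (b : ℤ) := Int.natCast_dvd_natCast.2 hpb
      have h8 : (1 : ℤ) = ε * d - f * b - (M - 1) := by linarith
      rw [h8]
      exact dvd_sub (dvd_sub (h6.mul_left _) (h7.mul_left _)) (hpy.trans hyM)
    obtain ⟨c, hc⟩ := coprime_part hp hpd hd
    have hcz : (d : ℤ) * c = (Q ^ 6 - 1) ^ 2 := by
      have : (B : ℤ) = d * c := by rw [hc]; push_cast; ring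
      rw [← this, hBz, hQ]
    have hdN : (N : ℤ) ∣ d - 4 * ε := by
      have h5 : (N : ℤ) ∣ 2 * (ε * d - 4) := by
        have h6 : 2 * (ε * d - 4) = (Q ^ 2 + 1) * (2 * Z ^ 2 - Z - 4) * N + 2 * f * (b - f) := by
          rw [hNz]
          have e1 : (Q ^ 2 + 1) * (2 * Z ^ 2 - Z - 4) * (Q ^ 4 - Q ^ 2 + 1) = (Z ^ 2 + 1) * (2 * Z ^ 2 - Z - 4) := by
            rw [hZ]; ring
          rw [e1]
          linear_combination -2 * hMe + hM2 + 2 * hff
        rw [h6]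
        exact dvd_add (dvd_mul_left _ _) (hbN.mul_left _)
      have h6 := (N_odd hNz).dvd_of_dvd_mul_left h5
      have h7 : (d : ℤ) - 4 * ε = ε * (ε * d - 4) := by linear_combination -(d : ℤ) * hεε
      rw [h7]
      exact h6.mul_left _
    have hcN : (N : ℤ) ∣ c - ε := compl_mod' hε hNz hdN hcz
    obtain ⟨l, hl⟩ := hdN
    obtain ⟨k, hk⟩ := hcN
    have hl' : (d : ℤ) = 4 * ε + l * N := by linarith
    have hk' : (c : ℤ) = ε + k * N := by linarith
    have hE := E1 (q := Q) (k := k) (l := l) hε hNz hN0 (by rw [← hk', ← hl', mul_comm]; exact hcz)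
    have hcp : (0 : ℤ) < c := by
      have : c ≠ 0 := by
        rintro rfl
        rw [mul_zero] at hc
        exact hB0 hc
      exact_mod_cast Nat.pos_of_ne_zero this
    have hN5 : (5 : ℤ) ≤ N := by linarith only [hN3, hZ64]
    have hl1 : ε = 1 → 0 ≤ l := fun h5 => coef_nonneg hN5 (by rw [h5]; norm_num) hdp hl'
    have hl2 : ε = -1 → 1 ≤ l := fun h5 => coef_pos hNpos (by rw [h5]; norm_num) hdp hl'
    by_cases hk0 : k = 0
    · rw [hk0, zero_mul, add_zero] at hk'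
      have hε1 : ε = 1 := by
        rcases hε with h5 | h5
        · exact h5
        · rw [h5] at hk'; linarith
      refine concl ?_ hε1
      rw [hk', hε1, mul_one] at hcz
      rw [hcz, hBz, hQ]
    · exfalso
      have hk1 : 1 ≤ k := by
        by_contra h5
        push Not at h5
        have h7 : ε ≤ 4 := by rcases hε with h | h <;> rw [h] <;> norm_num
        have h8 := coef_nonneg hN5 h7 hcp hk'
        omega
      have hc3 : 3 * Z ≤ c := by
        rw [hk']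
        have h7 : -1 ≤ ε := by rcases hε with h | h <;> rw [h] <;> norm_num
        have h8 := mul_ge hk1 hNpos.le
        linarith only [h7, h8, hN3]
      have hd3 : 3 * (d : ℤ) ≤ Z ^ 3 := by
        have h5 : (d : ℤ) * (3 * Z) ≤ d * c := mul_le_mul_of_nonneg_left hc3 hdp.le
        have h6 : (d : ℤ) * c = (Z ^ 2 - 1) ^ 2 := by rw [hcz, hZ]; ring
        have h7 : 3 * (d : ℤ) * Z ≤ Z ^ 3 * Z := by
          have e1 : 3 * (d : ℤ) * Z = d * (3 * Z) := by ring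
          have e2 : Z ^ 3 * Z = Z ^ 4 := by ring
          rw [e1, e2]
          exact (h5.trans h6.le).trans (sq_le4 hZ64)
        exact le_of_mul_le_mul_right h7 (by linarith)
      obtain ⟨hZ2, hZ3, hZ4⟩ := pows hZ64
      have hεd : ε * d ≤ d ∧ -(d : ℤ) ≤ ε * d := by
        rcases hε with h | h <;> rw [h] <;> constructor <;> linarith
      have hf1 : f = -1 := by
        rcases hf with h5 | h5
        · exfalso
          rw [h5, one_mul] at hMe
          linarith [hεd.1]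
        · exact h5
      rw [hf1] at hMe
      have hbe : (b : ℤ) = M - ε * d := by linarith
      obtain ⟨j, b', hb1, hb2, hb3⟩ := split hp hb0 hb
      have hdv : (b : ℤ) ∣ (p ^ j : ℕ) * (B - b) := by
        have h5 : b ∣ p ^ j * B := by rw [hb1]; exact Nat.mul_dvd_mul_left _ hb3
        have h6 : (b : ℤ) ∣ (p ^ j : ℕ) * B := by exact_mod_cast h5
        rw [mul_sub]
        exact dvd_sub h6 (dvd_mul_left _ _)
      have hBb : 2 * ((B : ℤ) - b) = Z ^ 3 - 2 * Z ^ 2 + Z + 2 * (ε * d) := by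
        rw [hBZ, hbe]
        linarith [hM2, (by ring : 2 * (Z ^ 2 - 1) ^ 2 - (2 * Z ^ 4 - Z ^ 3 - 2 * Z ^ 2 - Z + 2) = Z ^ 3 - 2 * Z ^ 2 + Z)]
      have hBbp : 0 < (B : ℤ) - b := by linarith [hεd.2]
      have hpjp : (0 : ℤ) < (p ^ j : ℕ) := by exact_mod_cast Nat.pow_pos hp.pos
      have hle := Int.le_of_dvd (mul_pos hpjp hBbp) hdv
      have hZb : Z ∣ (b : ℤ) := by
        rcases pow_alt (e := 3) (j := j) hp hq with h5 | h5
        · have h6 : q ^ 3 ∣ b := h5.trans (Dvd.intro _ hb1.symm)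
          rw [hZ, hQ]
          exact_mod_cast h6
        · exfalso
          have h6 : 2 * ((p ^ j : ℕ) : ℤ) ≤ Z := by
            rw [hZ, hQ]
            exact_mod_cast h5
          have h7 : 2 * ((p ^ j : ℕ) : ℤ) * ((B : ℤ) - b) ≤ Z * ((B : ℤ) - b) := mul_le_mul_of_nonneg_right h6 hBbp.le
          have h8 : Z * (6 * ((B : ℤ) - b)) ≤ Z * (5 * Z ^ 3) :=
            mul_le_mul_of_nonneg_left (by linarith [hεd.1]) (by linarith)
          have h9 : Z * (5 * Z ^ 3) = 5 * Z ^ 4 := by ring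
          linarith [hεd.1]
      -- `Z ∣ 2 k`
      have h2d : Z ∣ 2 * (ε * d) - 2 := by
        have h5 : 2 * (ε * d) - 2 = Z * (2 * Z ^ 3 - Z ^ 2 - 2 * Z - 1) - 2 * b := by
          rw [hbe]
          linarith [hM2, (by ring : Z * (2 * Z ^ 3 - Z ^ 2 - 2 * Z - 1) = 2 * Z ^ 4 - Z ^ 3 - 2 * Z ^ 2 - Z)]
        rw [h5]
        exact dvd_sub (dvd_mul_right _ _) (hZb.mul_left _)
      have hdc : Z ∣ (d : ℤ) * c - 1 := by
        rw [hcz]
        exact ⟨Z ^ 3 - 2 * Z, by rw [hZ]; ring⟩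
      have h2kN : Z ∣ 2 * k * N := by
        have h5 : 2 * k * N = 2 * ε * ((d : ℤ) * c - 1) - c * (2 * (ε * d) - 2) := by
          have : k * N = c - ε := by linarith
          linear_combination 2 * this
        rw [h5]
        exact dvd_sub (hdc.mul_left _) (h2d.mul_left _)
      have hcopZN : IsCoprime Z (N : ℤ) := by
        rw [hZ]
        apply IsCoprime.pow_left
        refine ⟨Q - Q ^ 3, 1, ?_⟩
        rw [hNz]; ring
      have h2k : Z ∣ 2 * k := hcopZN.dvd_of_dvd_mul_right h2kN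
      have h2kle : Z ≤ 2 * k := Int.le_of_dvd (by linarith) h2k
      have hyb : Q ^ 2 ∣ (b : ℤ) := (Dvd.intro Q (by rw [hZ]; ring) : Q ^ 2 ∣ Z).trans hZb
      refine lemB (y := Q ^ 2) (N := N) (k := k) (l := l) (f := ε) hy16 (by rw [hNz]; ring) hε (by linarith) ?_ hl1 hl2 hE
      have h5 : l + 3 * ε = ε * ((M - 1) - b) - l * (Q ^ 4 - Q ^ 2) := by
        have h6 : l * N = d - 4 * ε := by linarith
        have h7 : l * (Q ^ 4 - Q ^ 2) = l * N - l := by rw [hNz]; ring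
        rw [h7, h6]
        linear_combination ε * hbe - (d : ℤ) * hεε
      rw [h5]
      refine dvd_sub ((dvd_sub hyM hyb).mul_left _) ⟨l * (Q ^ 2 - 1), by ring⟩
  · -- Case 1
    obtain ⟨c, hc⟩ := coprime_part hp hpb hb
    have hcz : (b : ℤ) * c = (Q ^ 6 - 1) ^ 2 := by
      have : (B : ℤ) = b * c := by rw [hc]; push_cast; ring
      rw [← this, hBz, hQ]
    have hcN : (N : ℤ) ∣ c - 4 * f := compl_mod hf hNz hbN hcz
    obtain ⟨k, hk⟩ := hbN
    obtain ⟨l, hl⟩ := hcN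
    have hk' : (b : ℤ) = f + k * N := by linarith
    have hl' : (c : ℤ) = 4 * f + l * N := by linarith
    have hE := E1 (q := Q) (k := k) (l := l) hf hNz hN0 (by rw [← hk', ← hl']; exact hcz)
    have hcp : (0 : ℤ) < c := by
      have : c ≠ 0 := by
        rintro rfl
        rw [mul_zero] at hc
        exact hB0 hc
      exact_mod_cast Nat.pos_of_ne_zero this
    have hN5 : (5 : ℤ) ≤ N := by linarith only [hN3, hZ64]
    have hk1 : f = 1 → 0 ≤ k := fun h5 => coef_nonneg hN5 (by rw [h5]; norm_num) hbp hk'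
    have hk2 : f = -1 → 1 ≤ k := fun h5 => coef_pos hNpos (by rw [h5]; norm_num) hbp hk'
    have hl1 : f = 1 → 0 ≤ l := fun h5 => coef_nonneg hN5 (by rw [h5]; norm_num) hcp hl'
    have hl2 : f = -1 → 1 ≤ l := fun h5 => coef_pos hNpos (by rw [h5]; norm_num) hcp hl'
    obtain ⟨hZ2, hZ3, hZ4⟩ := pows hZ64
    -- `2 b ≤ Z ^ 3` if `l ≥ 1`
    have hsmall : 1 ≤ l → 2 * (b : ℤ) ≤ Z ^ 3 := by
      intro h5
      have h6 : 2 * Z ≤ c := by
        rw [hl']
        have h7 : -1 ≤ f := by rcases hf with h | h <;> rw [h] <;> norm_num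
        have h8 := mul_ge h5 hNpos.le
        linarith only [h7, h8, hN3, hZ64]
      have h7 : (b : ℤ) * (2 * Z) ≤ b * c := mul_le_mul_of_nonneg_left h6 hbp.le
      have h8 : (b : ℤ) * c = (Z ^ 2 - 1) ^ 2 := by rw [hcz, hZ]; ring
      have h9 : 2 * (b : ℤ) * Z ≤ Z ^ 3 * Z := by
        have e1 : 2 * (b : ℤ) * Z = b * (2 * Z) := by ring
        have e2 : Z ^ 3 * Z = Z ^ 4 := by ring
        rw [e1, e2]
        exact (h7.trans h8.le).trans (sq_le4 hZ64)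
      exact le_of_mul_le_mul_right h9 (by linarith)
    have hMpos : 0 < M + f * b := by
      rcases hf with h5 | h5
      · rw [h5, one_mul]; linarith
      · have := hsmall (hl2 h5)
        rw [h5]; linarith
    have hε1 : ε = 1 := by
      rcases hε with h5 | h5
      · exact h5
      · exfalso
        rw [hMe, h5] at hMpos
        linarith
    have hde : (d : ℤ) = M + f * b := by rw [hMe, hε1, one_mul]
    by_cases hpd : p ∣ d
    · exfalso
      obtain ⟨i, d', hd1, hd2, hd3⟩ := split hp hd0 hd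
      have hdv : (d : ℤ) ∣ (p ^ i : ℕ) * (B - d) := by
        have h5 : d ∣ p ^ i * B := by rw [hd1]; exact Nat.mul_dvd_mul_left _ hd3
        have h6 : (d : ℤ) ∣ (p ^ i : ℕ) * B := by exact_mod_cast h5
        rw [mul_sub]
        exact dvd_sub h6 (dvd_mul_left _ _)
      have hBd : 2 * ((B : ℤ) - d) = Z ^ 3 - 2 * Z ^ 2 + Z - 2 * (f * b) := by
        rw [hBZ, hde]
        linarith [hM2, (by ring : 2 * (Z ^ 2 - 1) ^ 2 - (2 * Z ^ 4 - Z ^ 3 - 2 * Z ^ 2 - Z + 2) = Z ^ 3 - 2 * Z ^ 2 + Z)]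
      by_cases hl0 : l = 0
      · -- `B = 4 b`
        have hf1 : f = 1 := by
          rcases hf with h5 | h5
          · exact h5
          · have := hl2 h5
            omega
        rw [hl0, hf1, zero_mul, add_zero] at hl'
        have h4b : (B : ℤ) = 4 * b := by
          have : (B : ℤ) = b * c := by rw [hc]; push_cast; ring
          rw [this, hl']; ring
        rw [hf1, one_mul] at hde
        have h4d : 4 * (d : ℤ) = 5 * Z ^ 4 - 2 * Z ^ 3 - 6 * Z ^ 2 - 2 * Z + 5 := by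
          rw [hde]
          linarith [hM2, hBZ, h4b, (by ring : (Z ^ 2 - 1) ^ 2 = Z ^ 4 - 2 * Z ^ 2 + 1)]
        have hp5 : p = 5 := by
          have h5 : (p : ℤ) ∣ 5 := by
            have h6 : (p : ℤ) ∣ (d : ℤ) := Int.natCast_dvd_natCast.2 hpd
            have h7 : (5 : ℤ) = 4 * d - Z * (5 * Z ^ 3 - 2 * Z ^ 2 - 6 * Z - 2) := by
              linarith [h4d, (by ring : Z * (5 * Z ^ 3 - 2 * Z ^ 2 - 6 * Z - 2) = 5 * Z ^ 4 - 2 * Z ^ 3 - 6 * Z ^ 2 - 2 * Z)]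
            rw [h7]
            refine dvd_sub (h6.mul_left _) (Dvd.dvd.mul_right ?_ _)
            rw [hZ]
            exact hpQ.trans (dvd_pow_self Q (by norm_num))
          have h6 : p ∣ 5 := by exact_mod_cast h5
          exact (Nat.prime_dvd_prime_iff_eq hp (by norm_num)).1 h6
        have hi : i < 2 := by
          by_contra h5
          push Not at h5
          have h6 : (25 : ℕ) ∣ d := by
            rw [hd1, hp5]
            exact (pow_dvd_pow 5 h5 : 5 ^ 2 ∣ 5 ^ i).mul_right _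
          have h7 : (25 : ℤ) ∣ (d : ℤ) := by exact_mod_cast h6
          have h8 : (25 : ℤ) ∣ Z := by
            have h9 : (5 : ℤ) ∣ Q := by rw [hp5] at hpQ; exact_mod_cast hpQ
            obtain ⟨t, ht⟩ := h9
            exact ⟨5 * t ^ 3, by rw [hZ, ht]; ring⟩
          have h9 : (25 : ℤ) ∣ 5 := by
            have h10 : (5 : ℤ) = 4 * d - Z * (5 * Z ^ 3 - 2 * Z ^ 2 - 6 * Z - 2) := by
              linarith [h4d, (by ring : Z * (5 * Z ^ 3 - 2 * Z ^ 2 - 6 * Z - 2) = 5 * Z ^ 4 - 2 * Z ^ 3 - 6 * Z ^ 2 - 2 * Z)]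
            rw [h10]
            exact dvd_sub (h7.mul_left _) (h8.mul_right _)
          exact absurd h9 (by norm_num)
        have hdv5 : (d : ℤ) ∣ 5 * (d - B) := by
          have h5 : (d : ℤ) ∣ ((5 ^ 1 : ℕ) : ℤ) * (B - d) := by
            have h6 : ((p ^ i : ℕ) : ℤ) ∣ ((5 ^ 1 : ℕ) : ℤ) := by
              rw [hp5]
              exact_mod_cast (pow_dvd_pow 5 (by omega : i ≤ 1))
            exact hdv.trans (mul_dvd_mul_right h6 _)
          have h6 : 5 * ((d : ℤ) - B) = -(((5 ^ 1 : ℕ) : ℤ) * (B - d)) := by push_cast; ring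
          rw [h6]
          exact h5.neg_right
        refine eq_of_dvd_lt hdv5 ?_ ?_
        · linarith [hBZ, (by ring : (Z ^ 2 - 1) ^ 2 = Z ^ 4 - 2 * Z ^ 2 + 1)]
        · linarith [hBZ, (by ring : (Z ^ 2 - 1) ^ 2 = Z ^ 4 - 2 * Z ^ 2 + 1)]
      · have hl3 : 1 ≤ l := by
          rcases hf with h5 | h5
          · have := hl1 h5
            omega
          · exact hl2 h5
        have hb2 := hsmall hl3
        have hfb : f * b ≤ b ∧ -(b : ℤ) ≤ f * b := by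
          rcases hf with h | h <;> rw [h] <;> constructor <;> linarith
        have hBd0 : (B : ℤ) - d ≠ 0 := by
          intro h5
          rw [h5, mul_zero] at hBd
          have hf1 : f = 1 := by
            rcases hf with h6 | h6
            · exact h6
            · rw [h6] at hBd; linarith
          rw [hf1, one_mul] at hBd
          have h6 : 2 * b = q ^ 3 * (q ^ 3 - 1) ^ 2 := by
            have h7 : ((2 * b : ℕ) : ℤ) = ((q ^ 3 * (q ^ 3 - 1) ^ 2 : ℕ) : ℤ) := by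
              push_cast [Nat.cast_sub hq3]
              rw [← hQ, ← hZ]
              linarith [(by ring : Z * (Z - 1) ^ 2 = Z ^ 3 - 2 * Z ^ 2 + Z)]
            exact_mod_cast h7
          apply hpb
          have h7 : q ^ 2 ∣ b := sq_dvd h6
          refine dvd_trans ?_ h7
          rw [hq]
          exact (dvd_pow_self p ha.ne').trans (dvd_pow_self _ two_ne_zero)
        have habs : |(B : ℤ) - d| ≤ Z ^ 3 := by
          rw [abs_le]
          constructor <;> linarith [hfb.1, hfb.2]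
        have hpip : (0 : ℤ) < (p ^ i : ℕ) := by exact_mod_cast Nat.pow_pos hp.pos
        have hle : (d : ℤ) ≤ (p ^ i : ℕ) * Z ^ 3 := by
          have h5 : (d : ℤ) ∣ (p ^ i : ℕ) * |(B : ℤ) - d| := by
            rcases abs_choice ((B : ℤ) - d) with h6 | h6 <;> rw [h6]
            · exact hdv
            · rw [mul_neg]; exact hdv.neg_right
          have h6 := Int.le_of_dvd (mul_pos hpip (abs_pos.2 hBd0)) h5
          exact h6.trans (mul_le_mul_of_nonneg_left habs hpip.le)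
        have hyd : Q ^ 2 ∣ (d : ℤ) := by
          rcases pow_alt (e := 2) (j := i) hp hq with h5 | h5
          · have h6 : q ^ 2 ∣ d := h5.trans (Dvd.intro _ hd1.symm)
            rw [hQ]
            exact_mod_cast h6
          · exfalso
            have h6 : 2 * ((p ^ i : ℕ) : ℤ) ≤ Q ^ 2 := by
              rw [hQ]
              exact_mod_cast h5
            have hZ3p : 0 < Z ^ 3 := pow_pos (by linarith) 3
            have h7 : 2 * ((p ^ i : ℕ) : ℤ) * Z ^ 3 ≤ Q ^ 2 * Z ^ 3 := mul_le_mul_of_nonneg_right h6 hZ3p.le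
            have h8 : 4 * Q ^ 2 * Z ^ 3 ≤ Z * Z ^ 3 := mul_le_mul_of_nonneg_right hZy hZ3p.le
            have h9 : Z * Z ^ 3 = Z ^ 4 := by ring
            linarith [hfb.2]
        have hyb : Q ^ 2 ∣ b + f := by
          have h5 : (b : ℤ) + f = f * (d - (M - 1)) := by
            rw [hde]
            linear_combination -(b : ℤ) * hff
          rw [h5]
          exact (dvd_sub hyd hyM).mul_left _
        refine lemA (y := Q ^ 2) (N := N) (k := k) (l := l) (f := f) hy16 (by rw [hNz]; ring) hf ?_ ?_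
          (fun h5 => ⟨hk1 h5, hl1 h5⟩) (fun h5 => ⟨hk2 h5, hl2 h5⟩) hE
        · have h5 : k + 2 * f = (b + f) - k * (Q ^ 4 - Q ^ 2) := by
            rw [hk', hNz]; ring
          rw [h5]
          exact dvd_sub hyb ⟨k * (Q ^ 2 - 1), by ring⟩
        · have hyc : Q ^ 2 ∣ c + f := by
            have h5 : (c : ℤ) + f = f * (b + f) * c - f * ((b : ℤ) * c - 1) := by
              linear_combination -(c : ℤ) * hff
            rw [h5]
            refine dvd_sub ((hyb.mul_left _).mul_right _) (Dvd.dvd.mul_left ?_ _)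
            rw [hcz]
            exact ⟨Q ^ 10 - 2 * Q ^ 4, by ring⟩
          have h5 : l + 5 * f = (c + f) - l * (Q ^ 4 - Q ^ 2) := by
            rw [hl', hNz]; ring
          rw [h5]
          exact dvd_sub hyc ⟨l * (Q ^ 2 - 1), by ring⟩
    · -- `d ∣ B`
      obtain ⟨e, he⟩ := coprime_part hp hpd hd
      have he1 : e = 1 := by
        have he0 : e ≠ 0 := by
          rintro rfl
          rw [mul_zero] at he
          exact hB0 he
        by_contra h5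
        have h6 : 2 ≤ e := by omega
        have h7 : d * 2 ≤ B := by rw [he]; exact Nat.mul_le_mul_left _ h6
        have h8 : (d : ℤ) * 2 ≤ B := by exact_mod_cast h7
        rw [hBZ] at h8
        have h9 : (Z ^ 2 - 1) ^ 2 = Z ^ 4 - 2 * Z ^ 2 + 1 := by ring
        rcases hf with h10 | h10
        · rw [h10, one_mul] at hde
          linarith
        · have := hsmall (hl2 h10)
          rw [h10] at hde
          linarith
      rw [he1, mul_one] at he
      exact concl (by exact_mod_cast he.symm) hε1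

end Cfsg.Agent.H519.TDU
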