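import Mathlib

/-!
# The degree lemma for `³D₄(q)`: the polynomial equations (helper519)
-/

set_option autoImplicit false

namespace Cfsg.Agent.H519.TDU

theorem lt_of_mul {N x z : ℤ} (hN : 0 < N) (h : x * N < z * N) : x < z := lt_of_mul_lt_mul_right h hN.le

/-- no multiple of `m` strictly between `0` and `m` -/
theorem no_mul {m n t : ℤ} (h : n * m = t) (h0 : 0 < t) (h1 : t < m) : False := by
  have hm : 0 < m := h0.trans h1
  have h2 : 0 < n := by
    by_contra h3
    push Not at h3
    nlinarith
  nlinarith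

theorem lemA {y N k l f : ℤ} (hy : 16 ≤ y) (hN : N = y ^ 2 - y + 1) (hf : f = 1 ∨ f = -1) (hk : y ∣ k + 2 * f)
    (hl : y ∣ l + 5 * f) (h1 : f = 1 → 0 ≤ k ∧ 0 ≤ l) (h2 : f = -1 → 1 ≤ k ∧ 1 ≤ l)
    (h : k * l * N + f * (l + 4 * k) = (y + 1) ^ 2 * N - 4 * (y + 1)) : False := by
  have hN0 : 0 < N := by rw [hN]; nlinarith
  rcases hf with rfl | rfl
  · obtain ⟨hk0, hl0⟩ := h1 rfl
    obtain ⟨k', hk'⟩ := hk
    obtain ⟨l', hl'⟩ := hl
    have hk1 : 1 ≤ k' := by
      by_contra h3
      push Not at h3
      have : k' ≤ 0 := by omega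
      nlinarith
    have hl1 : 1 ≤ l' := by
      by_contra h3
      push Not at h3
      have : l' ≤ 0 := by omega
      nlinarith
    have hkl : k * l < (y + 1) ^ 2 := lt_of_mul hN0 (by linarith)
    have hkb : y - 2 ≤ k := by nlinarith
    have hlb : y - 5 ≤ l := by nlinarith
    rcases lt_or_ge k' 2 with hk2 | hk2
    · have ek : k = y - 2 := by
        have : k' = 1 := by omega
        rw [this] at hk'; linarith
      rcases lt_or_ge l' 2 with hl2 | hl2
      · have el : l = y - 5 := by
          have : l' = 1 := by omega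
          rw [this] at hl'; linarith
        rw [ek, el] at h
        have h3 : (9 * (y - 1)) * (N - 1) = 0 := by linarith [h, (by ring : (9 * (y - 1)) * (N - 1) = ((y + 1) ^ 2 - (y - 2) * (y - 5)) * N - 9 * (y - 1) + ((9 * (y - 1)) - ((y + 1) ^ 2 - (y - 2) * (y - 5))) * N), (by ring : ((9 * (y - 1)) - ((y + 1) ^ 2 - (y - 2) * (y - 5))) * N = 0)]
        rcases mul_eq_zero.1 h3 with h4 | h4
        · linarith
        · rw [hN] at h4; nlinarith
      · have hlb2 : 2 * y - 5 ≤ l := by nlinarith
        have h4 : (y - 2) * (2 * y - 5) ≤ k * l := by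
          rw [ek]
          exact mul_le_mul_of_nonneg_left hlb2 (by linarith)
        nlinarith
    · have hkb2 : 2 * y - 2 ≤ k := by nlinarith
      have h4 : (2 * y - 2) * (y - 5) ≤ k * l :=
        mul_le_mul hkb2 hlb (by linarith) (by linarith)
      nlinarith
  · obtain ⟨hk0, hl0⟩ := h2 rfl
    obtain ⟨k', hk'⟩ := hk
    obtain ⟨l', hl'⟩ := hl
    have hk1 : 0 ≤ k' := by
      by_contra h3
      push Not at h3
      have : k' ≤ -1 := by omega
      nlinarith
    have hl1 : 0 ≤ l' := by
      by_contra h3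
      push Not at h3
      have : l' ≤ -1 := by omega
      nlinarith
    rcases lt_or_ge k' 1 with hk2 | hk2
    · have ek : k = 2 := by
        have : k' = 0 := by omega
        rw [this] at hk'; linarith
      rw [ek] at h
      have e1 : (2 * l - (y + 1) ^ 2) * (2 * N - 1) = (y - 3) ^ 2 := by
        have e2 : N = y ^ 2 - y + 1 := hN
        have : l * (2 * N - 1) = (y + 1) ^ 2 * N - 4 * y + 4 := by linarith
        linear_combination 2 * this
      refine no_mul e1 (by nlinarith) ?_
      rw [hN]
      nlinarith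
    · have hkb : y + 2 ≤ k := by nlinarith
      rcases lt_or_ge l' 1 with hl2 | hl2
      · have el : l = 5 := by
          have : l' = 0 := by omega
          rw [this] at hl'; linarith
        rw [el] at h
        have e1 : (5 * k - (y + 1) ^ 2) * (5 * N - 4) = (2 * y - 3) ^ 2 := by
          have : k * (5 * N - 4) = (y + 1) ^ 2 * N - 4 * y + 1 := by linarith
          linear_combination 5 * this
        refine no_mul e1 (by nlinarith) ?_
        rw [hN]
        nlinarith
      · have hlb : y + 5 ≤ l := by nlinarith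
        have h3 : 0 < k * N - 1 := by
          have : 1 ≤ N := by omega
          nlinarith
        have h4 : (y + 5) * (k * N - 1) ≤ l * (k * N - 1) := mul_le_mul_of_nonneg_right hlb h3.le
        have h5 : 0 < (y + 5) * N - 4 := by nlinarith
        have h6 : (y + 2) * ((y + 5) * N - 4) ≤ k * ((y + 5) * N - 4) := mul_le_mul_of_nonneg_right hkb h5.le
        have h7 : (y + 1) ^ 2 * N - 4 * (y + 1) = l * (k * N - 1) - 4 * k := by linarith
        have h8 : (y + 2) * ((y + 5) * N - 4) - (y + 5) ≤ (y + 1) ^ 2 * N - 4 * (y + 1) := by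
          rw [h7]
          linarith
        nlinarith

theorem lemB {y N k l f : ℤ} (hy : 16 ≤ y) (hN : N = y ^ 2 - y + 1) (hf : f = 1 ∨ f = -1) (hk : 2 * y ≤ k)
    (hl : y ∣ l + 3 * f) (h1 : f = 1 → 0 ≤ l) (h2 : f = -1 → 1 ≤ l)
    (h : k * l * N + f * (l + 4 * k) = (y + 1) ^ 2 * N - 4 * (y + 1)) : False := by
  have hN0 : 0 < N := by rw [hN]; nlinarith
  rcases hf with rfl | rfl
  · have hl0 := h1 rfl
    obtain ⟨l', hl'⟩ := hl
    have hl1 : 1 ≤ l' := by
      by_contra h3
      push Not at h3
      have : l' ≤ 0 := by omega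
      nlinarith
    have hlb : y - 3 ≤ l := by nlinarith
    have hkl : k * l < (y + 1) ^ 2 := lt_of_mul hN0 (by linarith)
    have h4 : (2 * y) * (y - 3) ≤ k * l := mul_le_mul hk hlb (by linarith) (by linarith)
    nlinarith
  · have hl0 := h2 rfl
    obtain ⟨l', hl'⟩ := hl
    have hl1 : 0 ≤ l' := by
      by_contra h3
      push Not at h3
      have : l' ≤ -1 := by omega
      nlinarith
    rcases lt_or_ge l' 1 with hl2 | hl2
    · have el : l = 3 := by
        have : l' = 0 := by omega
        rw [this] at hl'; linarith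
      rw [el] at h
      have e1 : (3 * k - (y + 1) ^ 2) * (3 * N - 4) = (2 * y - 1) ^ 2 := by
        have : k * (3 * N - 4) = (y + 1) ^ 2 * N - 4 * y - 1 := by linarith
        linear_combination 3 * this
      have e2 : (3 * k - (y + 1) ^ 2 - 1) * (3 * N - 4) = (2 * y - 1) ^ 2 - (3 * N - 4) := by
        linear_combination e1
      refine no_mul e2 ?_ ?_
      · rw [hN]; nlinarith
      · rw [hN]; nlinarith
    · have hlb : y + 3 ≤ l := by nlinarith
      have hk0 : 0 < k := by linarith
      have h3 : 0 < k * N - 1 := by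
        have : 1 ≤ N := by omega
        nlinarith
      have h4 : (y + 3) * (k * N - 1) ≤ l * (k * N - 1) := mul_le_mul_of_nonneg_right hlb h3.le
      have h5 : 0 < (y + 3) * N - 4 := by nlinarith
      have h6 : (2 * y) * ((y + 3) * N - 4) ≤ k * ((y + 3) * N - 4) := mul_le_mul_of_nonneg_right hk h5.le
      have h7 : (y + 1) ^ 2 * N - 4 * (y + 1) = l * (k * N - 1) - 4 * k := by linarith
      have h8 : (2 * y) * ((y + 3) * N - 4) - (y + 3) ≤ (y + 1) ^ 2 * N - 4 * (y + 1) := by
        rw [h7]
        linarith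
      nlinarith [mul_pos (show (0 : ℤ) < y by linarith) hN0, mul_nonneg (show (0 : ℤ) ≤ y - 16 by linarith) (mul_nonneg (show (0 : ℤ) ≤ y by linarith) hN0.le)]

end Cfsg.Agent.H519.TDU
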