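import Cfsg.Agent.H519.TDU.Main

/-!
# The degree sieve (helper519)
-/

set_option autoImplicit false

namespace Cfsg.Agent.H519.TDU

/-- all the divisors of the product of the prime powers in the list -/
def chk (P : ℕ → Bool) : List (ℕ × ℕ) → ℕ → Bool
  | [], a => P a
  | x :: l, a => (List.range (x.2 + 1)).all fun k => chk P l (a * x.1 ^ k)

theorem chk_sound {P : ℕ → Bool} : ∀ {l : List (ℕ × ℕ)} {a : ℕ}, (∀ x ∈ l, x.1.Prime) → chk P l a = true →
    ∀ m, m ∣ (l.map fun x => x.1 ^ x.2).prod → P (a * m) = true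
  | [], a, _, h, m, hm => by
    rw [List.map_nil, List.prod_nil, Nat.dvd_one] at hm
    rw [hm, mul_one]
    exact h
  | x :: l, a, hl, h, m, hm => by
    rw [List.map_cons, List.prod_cons, Nat.dvd_mul] at hm
    obtain ⟨m1, m2, h1, h2, rfl⟩ := hm
    obtain ⟨k, hk, rfl⟩ := (Nat.dvd_prime_pow (hl x List.mem_cons_self)).1 h1
    unfold chk at h
    rw [List.all_eq_true] at h
    have h3 := chk_sound (fun y hy => hl y (List.mem_cons_of_mem _ hy)) (h k (List.mem_range.2 (by omega))) m2 h2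
    rwa [mul_assoc] at h3

def mem (L : List ℕ) (m : ℕ) : Bool := L.any fun x => Nat.beq m x

def PP (N : ℕ) (L1 L2 : List ℕ) (m : ℕ) : Bool :=
  cond (Nat.beq (m % N) 1) (mem L1 m) (cond (Nat.beq (m % N) (N - 1)) (mem L2 m) true)

def prs (L1 L2 : List ℕ) : List (ℕ × ℤ) := (L1.map fun a => (a, 1)) ++ (L2.map fun a => (a, -1))

def chk2 (M Q p r : ℕ) (L : List (ℕ × ℤ)) : Bool :=
  L.all fun x => L.all fun y => (Nat.blt 0 (M % (1 + (Q : ℤ) + x.2 * (x.1 : ℤ) + y.2 * (y.1 : ℤ)).natAbs)) ||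
    (Nat.beq ((1 + (Q : ℤ) + x.2 * (x.1 : ℤ) + y.2 * (y.1 : ℤ)).natAbs % r ^ 2) 0 &&
      (Nat.beq (x.1 % r ^ 2) 0 || Nat.beq (y.1 % r ^ 2) 0 || (Nat.beq x.1 (p ^ 6) && Nat.beq y.1 (p ^ 6))))

theorem mem_of {L : List ℕ} {m : ℕ} (h : mem L m = true) : m ∈ L := by
  unfold mem at h
  rw [List.any_eq_true] at h
  obtain ⟨x, hx, h1⟩ := h
  rw [Nat.eq_of_beq_eq_true h1]
  exact hx

theorem coprime_of {N a : ℕ} {α : ℤ} (hα : α = 1 ∨ α = -1) (h : (N : ℤ) ∣ a - α) : Nat.Coprime a N := by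
  have h1 : ((Nat.gcd a N : ℕ) : ℤ) ∣ α := by
    have h2 : ((Nat.gcd a N : ℕ) : ℤ) ∣ (a : ℤ) := by exact_mod_cast Nat.gcd_dvd_left a N
    have h3 : ((Nat.gcd a N : ℕ) : ℤ) ∣ (N : ℤ) := by exact_mod_cast Nat.gcd_dvd_right a N
    have h4 := dvd_sub h2 (h3.trans h)
    have h5 : (a : ℤ) - (a - α) = α := by ring
    rwa [h5] at h4
  have h2 : ((Nat.gcd a N : ℕ) : ℤ) ∣ 1 := by
    rcases hα with rfl | rfl
    · exact h1
    · exact (dvd_neg.1 h1)
  exact Nat.dvd_one.1 (by exact_mod_cast h2)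

theorem mod_one {N a : ℕ} (hN : 3 ≤ N) (h : (N : ℤ) ∣ a - 1) : a % N = 1 := by
  have h2 : (1 : ℤ) % N = (a : ℤ) % N := Int.modEq_iff_dvd.2 h
  have h3 : ((a % N : ℕ) : ℤ) = ((1 % N : ℕ) : ℤ) := by push_cast; exact h2.symm
  have h4 : a % N = 1 % N := by exact_mod_cast h3
  rw [h4]
  exact Nat.mod_eq_of_lt (by omega)

theorem mod_neg {N a : ℕ} (hN : 3 ≤ N) (h : (N : ℤ) ∣ a - (-1)) : a % N = N - 1 := by
  have h1 : N ∣ a + 1 := by
    have h2 : ((a : ℤ) - (-1)) = ((a + 1 : ℕ) : ℤ) := by push_cast; ring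
    rw [h2] at h
    exact_mod_cast h
  obtain ⟨k, hk⟩ := h1
  have hk0 : k ≠ 0 := by
    rintro rfl
    omega
  obtain ⟨j, rfl⟩ := Nat.exists_eq_succ_of_ne_zero hk0
  have h2 : a = (N - 1) + N * j := by
    rw [Nat.mul_succ] at hk
    omega
  rw [h2, Nat.add_mul_mod_self_left]
  exact Nat.mod_eq_of_lt (by omega)

theorem sieve_of {M Q N p r : ℕ} {l : List (ℕ × ℕ)} {L1 L2 : List ℕ} (hN : 3 ≤ N)
    (hM : M = (l.map fun x => x.1 ^ x.2).prod * N) (hl : ∀ x ∈ l, x.1.Prime) (h1 : chk (PP N L1 L2) l 1 = true)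
    (h2 : chk2 M Q p r (prs L1 L2) = true) : Sieve M Q N p r := by
  have key : ∀ a : ℕ, a ∣ M → ∀ α : ℤ, (α = 1 ∨ α = -1) → (N : ℤ) ∣ a - α → (a, α) ∈ prs L1 L2 := by
    intro a ha α hα h
    have hc := coprime_of hα h
    have h3 : a ∣ (l.map fun x => x.1 ^ x.2).prod := by
      rw [hM] at ha
      exact hc.dvd_of_dvd_mul_right ha
    have h4 := chk_sound hl h1 a h3
    rw [one_mul] at h4
    unfold PP at h4
    unfold prs
    rw [List.mem_append, List.mem_map, List.mem_map]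
    rcases hα with rfl | rfl
    · left
      rw [mod_one hN h] at h4
      exact ⟨a, mem_of h4, rfl⟩
    · right
      rw [mod_neg hN h] at h4
      have h5 : Nat.beq (N - 1) 1 = false := by
        rw [← Bool.not_eq_true]
        intro h6
        have := Nat.eq_of_beq_eq_true h6
        omega
      rw [h5, Nat.beq_refl] at h4
      exact ⟨a, mem_of h4, rfl⟩
  intro a b d ha hb hd α β ε hα hβ hε h3 h4 h5
  have hx := key a ha α hα h3
  have hy := key b hb β hβ h4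
  unfold chk2 at h2
  rw [List.all_eq_true] at h2
  have h6 := h2 _ hx
  rw [List.all_eq_true] at h6
  have h7 := h6 _ hy
  have h8 : (1 + (Q : ℤ) + α * (a : ℤ) + β * (b : ℤ)).natAbs = d := by
    rw [h5]
    rcases hε with rfl | rfl
    · simp
    · simp
  simp only [h8, Bool.or_eq_true, Bool.and_eq_true] at h7
  rcases h7 with h7 | ⟨h7, h9⟩
  · exfalso
    rw [Nat.mod_eq_zero_of_dvd hd] at h7
    exact absurd h7 (by decide)
  · refine ⟨Nat.dvd_of_mod_eq_zero (Nat.eq_of_beq_eq_true h7), ?_⟩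
    rcases h9 with (h9 | h9) | ⟨h9, h10⟩
    · exact Or.inl (Nat.dvd_of_mod_eq_zero (Nat.eq_of_beq_eq_true h9))
    · exact Or.inr (Or.inl (Nat.dvd_of_mod_eq_zero (Nat.eq_of_beq_eq_true h9)))
    · exact Or.inr (Or.inr ⟨⟨6, Nat.eq_of_beq_eq_true h9⟩, ⟨6, Nat.eq_of_beq_eq_true h10⟩⟩)

end Cfsg.Agent.H519.TDU
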