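import Cfsg.Agent.H519.TDU.Grp
import Cfsg.Agent.H519.TDU.Num
import Cfsg.Agent.H504.ZerosCyc
import Cfsg.Agent.H504.ZerosMod
import Cfsg.Agent.H129.CycT2
import Cfsg.Agent.H655.StProv
import Cfsg.Agent.H777.T6.Defs
import Cfsg.Agent.S1067
import Cfsg.Agent.S1071

/-!
# S2464, rows `³D₄(5)`, `³D₄(7)`, `³D₄(17)` (helper519)
-/

set_option autoImplicit false

open Cfsg Subgroup

namespace Cfsg.Agent.H519.TDU

open Cfsg.Lie Cfsg.Agent.H504.Zeros Cfsg.Agent.H504.ZeroTI Cfsg.Agent.H504.ZerosMod Cfsg.Agent.H129.CycT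
  Cfsg.Agent.Characters.CCBasic Cfsg.Agent.Characters.CCEstimates Cfsg.Agent.Cit.HexBase Cfsg.Agent.H777.T6

theorem fact_eq {M p k m : ℕ} (hp : p.Prime) (h : M = p ^ k * m) (hm : ¬ p ∣ m) : M.factorization p = k := by
  have hm0 : m ≠ 0 := by
    rintro rfl
    exact hm (dvd_zero p)
  rw [h, Nat.factorization_mul (pow_ne_zero _ hp.ne_zero) hm0, Finsupp.add_apply, hp.factorization_pow,
    Finsupp.single_eq_same, Nat.factorization_eq_zero_of_not_dvd hm, add_zero]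

theorem cop_six {p : ℕ} (hp : p.Prime) (h : 5 ≤ p) : Nat.Coprime p 6 := by
  have h2 : Nat.Coprime p 2 := (Nat.coprime_primes hp Nat.prime_two).2 (by omega)
  have h3 : Nat.Coprime p 3 := (Nat.coprime_primes hp Nat.prime_three).2 (by omega)
  exact Nat.Coprime.mul_right h2 h3

theorem lie_td4 (K : Type) [Field K] [Fintype K] (p : ℕ) [CharP K p] {q : ℕ} (hq : IsPrimePow q)
    (hK : Fintype.card K = q ^ 3) : IsLieTypeChar p ↥(twistedD4 K q) :=
  Or.inr (Or.inr (Or.inr (Or.inr (Or.inr (Or.inr (Or.inr (Or.inl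
    ⟨K, inferInstance, inferInstance, inferInstance, q, hq, Or.inr ⟨hK, ⟨MulEquiv.refl _⟩⟩⟩)))))))

theorem len_eq {G : Type*} [Group G] [Finite G] (A : Subgroup G) : len A = eIdx A := by
  unfold len
  rw [← eIdx_mul A]
  exact Nat.mul_div_cancel_left _ Nat.card_pos

variable {K : Type} [Field K] [Fintype K]

/-- **the general form** -/
theorem t6_gen {p r s N : ℕ} [hp : Fact p.Prime] [hr : Fact r.Prime] (h5 : 5 ≤ p) (hr5 : 5 ≤ r) (hpr : p ≠ r)
    (hK : Fintype.card K = p ^ 3) (hrK : r ∣ p ^ 3 - 1) (hN : N = p ^ 4 - p ^ 2 + 1) (hs : s * 4 + 1 = N) (h7 : 7 ≤ s)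
    (hN6 : Nat.Coprime N 6) (hpN : ¬ p ∣ N) (hQN : (N : ℤ) ∣ (p ^ 12 : ℕ) - 1) {M : ℕ}
    (hM : p ^ 12 * (p ^ 2 - 1) * (p ^ 6 - 1) * (p ^ 8 + p ^ 4 + 1) = M)
    (hMp : M.factorization p = 12) (hMr : M.factorization r = 2) (hS : Sieve M (p ^ 12) N p r) :
    T6 ↥(twistedD4 K p) := by
  have hpp : p.Prime := Fact.out
  have hrp : r.Prime := Fact.out
  have hq := hpp.isPrimePow
  obtain ⟨hsimp, hna⟩ := S1071.result (K := K) hq hK
  have hfin : Finite ↥(twistedD4 K p) := inferInstance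
  have hcard := S1067.result (K := K) hq hK
  rw [hM] at hcard
  have hch : CharP K p := by
    obtain ⟨t, ht⟩ := CharP.exists K
    obtain ⟨n, hn, hc⟩ := FiniteField.card K t
    have h1 : t ∣ p ^ 3 := by
      rw [← hK, hc]
      exact dvd_pow_self t n.pos.ne'
    have h2 : t = p := (Nat.prime_dvd_prime_iff_eq hn hpp).1 (hn.dvd_of_dvd_pow h1)
    rwa [h2] at ht
  have hlie := lie_td4 K p hq hK
  have hst := Cfsg.Agent.H655.StProv.hasSt p hpp hlie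
  -- the torus
  have hle : p ^ 2 ≤ p ^ 4 := Nat.pow_le_pow_right hpp.pos (by norm_num)
  have hNz : (N : ℤ) = 1 - (p : ℤ) ^ 2 + (p : ℤ) ^ 4 := by
    rw [hN]
    push_cast [Nat.cast_sub hle]
    ring
  obtain ⟨A, hAc, hAN, hAz⟩ := Cfsg.Agent.H129.CycT.exact_tD4_12 (F := K) hq hK hNz
  have hCC : CC A := cc_of_cyclic hAc hAz
  have hc : (Nat.card ↥(twistedD4 K p) : ℤ) = N * ((p : ℤ) ^ 12 * ((p : ℤ) ^ 2 - 1) *
      ((p : ℤ) ^ 6 - 1) * (1 + (p : ℤ) ^ 2 + (p : ℤ) ^ 4)) := by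
    have hsub : ∀ d, ((p ^ d - 1 : ℕ) : ℤ) = (p : ℤ) ^ d - 1 := by
      intro d
      rw [Nat.cast_sub (Nat.one_le_pow _ _ hpp.pos)]
      push_cast
      rfl
    rw [hcard, ← hM, Nat.cast_mul, Nat.cast_mul, Nat.cast_mul, hsub, hsub, hNz]
    push_cast
    ring
  have hmod : (((p : ℤ) ^ 12 * ((p : ℤ) ^ 2 - 1) *
      ((p : ℤ) ^ 6 - 1) * (1 + (p : ℤ) ^ 2 + (p : ℤ) ^ 4) : ℤ) : ZMod N) = ((4 : ℕ) : ZMod N) := by
    have h6 : ((1 - (p : ℤ) ^ 2 + (p : ℤ) ^ 4 : ℤ) : ZMod N) = 0 := by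
      rw [← hNz]
      simp
    push_cast at h6 ⊢
    exact mod_D4_12 h6
  have he : eIdx A = 4 := eIdx_of_int hCC hAN (by omega) (by omega) hc hmod
  have hne : A ≠ ⊥ := by
    rintro rfl
    rw [Subgroup.card_bot] at hAN
    omega
  have hIs : IsCC A := ⟨hne, hAz⟩
  obtain ⟨x, hx, hx1⟩ : ∃ x ∈ A, x ≠ 1 := by
    by_contra h
    push Not at h
    exact hne ((Subgroup.eq_bot_iff_forall _).2 h)
  -- the elements
  obtain ⟨σ, hσ, ⟨c⟩⟩ := Cfsg.Agent.Cit.HexD4.exists_d4 (K := K) hK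
  have hEK : Nat.card K = p ^ 3 := by rw [Nat.card_eq_fintype_card, hK]
  have hfx : Nat.card ↥(fx σ) = p := Cfsg.Agent.H311.card_fx hK hσ
  obtain ⟨u, z, hu, hz, huz, hui, huo⟩ := exists_uz c (p := p) (r := r) hpr (by omega) (by rw [hEK]; exact hrK) (by
    rw [hcard, hMp, hEK, hfx, ← pow_mul, ← pow_add, hpp.factorization_pow, Finsupp.single_eq_same])
  have hna' : ∃ a b : ↥(twistedD4 K p), a * b ≠ b * a := by
    by_contra h
    push Not at h
    exact hna ⟨⟨h⟩⟩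
  refine ⟨x, u * z, ?_, ?_, fun g hg => ?_⟩
  · have h1 := orderOf_dvd_natCard (⟨x, hx⟩ : A)
    rw [← Subgroup.orderOf_coe, hAN] at h1
    exact Nat.Coprime.coprime_dvd_left h1 hN6
  · rw [huo]
    exact Nat.Coprime.mul_left (cop_six hpp h5) (cop_six hrp hr5)
  · refine main hna' hIs hAN (by rw [len_eq, he]) hs h7 hst (Q := p ^ 12) (by rw [hcard, hMp]) ?_ hQN hpN
      (by rw [hcard, hMr]) (by rw [hcard]; exact hS) (by rw [hu]) hui huz hz (by rw [huo]; exact dvd_mul_right _ _)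
      (by rw [huo]; exact dvd_mul_left _ _) hx hx1 hg
    rw [hcard]
    by_contra h
    rw [Nat.factorization_eq_zero_of_not_dvd h] at hMp
    omega

end Cfsg.Agent.H519.TDU
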