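import Cfsg.Agent.H812.D4.Cnt
import Cfsg.Agent.H311.HexCard

/-!
# The elements `u` (long root) and `z` (of order `r | |E| - 1`, commuting with `u`) (helper519)
-/

set_option autoImplicit false

namespace Cfsg.Agent.H519.TDU

open Cfsg.Agent.SplitTwo Cfsg.Agent.TitsThree.RankTwoZ Cfsg.Agent.Lib.SL2Mat Cfsg.Agent.Cit.HexBase
  Cfsg.Agent.Cit.HexBase.HexGrp Cfsg.Agent.H812.D4 Cfsg.Agent.H311 Subgroup

universe u

variable {E : Type*} [Field E] {σ : E ≃+* E} {L : Type u} [Group L] (c : HexGrp σ L)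

theorem prd_mem (a : Fin 6 → E) (ha : a ∈ MM σ ⊤ (Cs 4)) : prd c a ∈ Sg c.X Pos := by
  rw [mem_MM] at ha
  have f1 := BB_fix (i := 1) rfl (ha 1)
  have f3 := BB_fix (i := 3) rfl (ha 3)
  have f5 := BB_fix (i := 5) rfl (ha 5)
  unfold prd
  refine mul_mem (mul_mem (mul_mem (mul_mem (mul_mem ?_ ?_) ?_) ?_) ?_) ?_
  · exact c.sg (by decide) (c.mem1 _)
  · exact c.sg (by decide) (c.mem2 f1)
  · exact c.sg (by decide) (c.mem3 _)
  · exact c.sg (by decide) (c.mem4 f3)
  · exact c.sg (by decide) (c.mem5 _)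
  · exact c.sg (by decide) (c.mem6 f5)

theorem card_U [Finite E] : Nat.card ↥(Sg c.X Pos) = Nat.card E ^ 3 * Nat.card ↥(fx σ) ^ 3 := by
  have h1 : ((Sg c.X Pos : Subgroup L) : Set L) = prd c '' MM σ ⊤ (Cs 4) := by
    ext g
    rw [SetLike.mem_coe, Set.mem_image]
    constructor
    · intro hg
      rw [← Cs4] at hg
      obtain ⟨a, ha, e⟩ := exists_prd c (k := 4) (by decide) hg
      exact ⟨a, ha, e.symm⟩
    · rintro ⟨a, ha, rfl⟩
      exact prd_mem c a ha
  have h2 : Nat.card ↥(Sg c.X Pos) = ((Sg c.X Pos : Subgroup L) : Set L).ncard := rfl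
  rw [h2, h1, Set.InjOn.ncard_image fun a ha b hb e => prd_inj ha hb e, ncard_MM]
  have he : ∀ i : Fin 6, i.val % 2 = 1 → (BB σ ⊤ (Cs 4) i).ncard = Nat.card ↥(fx σ) := by
    intro i hi
    unfold BB
    rw [if_pos (by rw [Cs4]; exact rt_mem i), if_pos hi]
    rfl
  have ho : ∀ i : Fin 6, i.val % 2 ≠ 1 → (BB σ ⊤ (Cs 4) i).ncard = Nat.card E := by
    intro i hi
    unfold BB
    rw [if_pos (by rw [Cs4]; exact rt_mem i), if_neg hi]
    simp
  simp only [Fin.prod_univ_succ, Fin.prod_univ_zero]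
  rw [ho 0 (by decide), he _ (by decide), ho _ (by decide), he _ (by decide), ho _ (by decide), he _ (by decide)]
  ring

theorem U_le {t : E} (ht : σ t = t) : Sg c.X Pos ≤ centralizer ({c.x4 t} : Set L) := fun g hg => by
  rw [mem_centralizer_singleton_iff]
  exact c.comm4 hg (c.mem4 ht)

theorem x4_pow {t : E} (ht : σ t = t) (n : ℕ) : c.x4 t ^ n = c.x4 (n * t) := by
  induction n with
  | zero => rw [pow_zero, Nat.cast_zero, zero_mul, c.x4_zero]
  | succ n ih =>
    rw [pow_succ, ih, Nat.cast_succ, add_mul, one_mul, c.x4_add _ ht]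
    rw [map_mul, map_natCast, ht]

theorem order_x4 {p : ℕ} [Fact p.Prime] [CharP E p] : orderOf (c.x4 1) = p := by
  refine orderOf_eq_prime ?_ ?_
  · rw [x4_pow c (map_one σ), mul_one, CharP.cast_eq_zero, c.x4_zero]
  · intro h
    exact one_ne_zero (c.x4_inj (map_one σ) (map_zero σ) (h.trans c.x4_zero.symm))

theorem pb_dg_pow {s : E} (hs : s ≠ 0) (n : ℕ) : c.pb (dg s hs) ^ n = c.pb (dg (s ^ n) (pow_ne_zero n hs)) := by
  induction n with
  | zero =>
    have : (dg (s ^ 0) (pow_ne_zero 0 hs) : SL2 E) = 1 := by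
      have h := dg_one (K := E) one_ne_zero
      simpa using h
    rw [pow_zero, this, map_one]
  | succ n ih =>
    have : (dg (s ^ (n + 1)) (pow_ne_zero (n + 1) hs) : SL2 E) = dg (s ^ n) (pow_ne_zero n hs) * dg s hs := by
      rw [← dg_mul']
      congr 1
      exact pow_succ s n
    rw [pow_succ, ih, this, map_mul]

theorem order_pb {s : E} (hs : s ≠ 0) {r : ℕ} [Fact r.Prime] (hr : r ≠ 2) (ho : orderOf s = r) :
    orderOf (c.pb (dg s hs)) = r := by
  have hrp : r.Prime := Fact.out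
  refine orderOf_eq_prime ?_ ?_
  · have h1 : s ^ r = 1 := by rw [← ho]; exact pow_orderOf_eq_one s
    have : (dg (s ^ r) (pow_ne_zero r hs) : SL2 E) = 1 := by
      have h := dg_one (K := E) one_ne_zero
      simp only [h1]
      exact h
    rw [pb_dg_pow, this, map_one]
  · intro h
    have h1 := (c.act_b s hs).a1 1
    rw [h, one_mul, inv_one, mul_one, mul_one] at h1
    have h2 := c.x1_inj h1
    have h3 : orderOf s ∣ 2 := orderOf_dvd_of_pow_eq_one h2.symm
    rw [ho] at h3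
    exact hr ((Nat.prime_dvd_prime_iff_eq hrp Nat.prime_two).1 h3)

include c in
/-- **the pair** -/
theorem exists_uz [Finite E] [Finite L] {p r : ℕ} [Fact p.Prime] [Fact r.Prime] [CharP E p] (hpr : p ≠ r) (hr : r ≠ 2)
    (hrE : r ∣ Nat.card E - 1) (hG : (Nat.card L).factorization p = (Nat.card E ^ 3 * Nat.card ↥(fx σ) ^ 3).factorization p) :
    ∃ u z : L, orderOf u = p ∧ orderOf z = r ∧ Commute u z ∧ ¬ p ∣ (centralizer ({u} : Set L)).index ∧
      orderOf (u * z) = p * r := by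
  have hpp : p.Prime := Fact.out
  have hrp : r.Prime := Fact.out
  obtain ⟨s, hs⟩ : ∃ s : Eˣ, orderOf s = r := exists_prime_orderOf_dvd_card' r (by rwa [Nat.card_units])
  have hs' : orderOf (s : E) = r := by rw [orderOf_units, hs]
  have hco : Commute (c.x4 1) (c.pb (dg (s : E) s.ne_zero)) := (c.pb_comm4 _ (c.mem4 (map_one σ))).symm
  have ho1 := order_x4 c (p := p)
  have ho2 := order_pb c s.ne_zero hr hs'
  refine ⟨_, _, ho1, ho2, hco, ?_, ?_⟩
  · intro h
    have h1 := (centralizer ({c.x4 1} : Set L)).card_mul_index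
    have h2 : Nat.card ↥(Sg c.X Pos) ∣ Nat.card ↥(centralizer ({c.x4 1} : Set L)) :=
      Subgroup.card_dvd_of_le (U_le c (map_one σ))
    rw [card_U] at h2
    have h3 : Nat.card E ^ 3 * Nat.card ↥(fx σ) ^ 3 * p ∣ Nat.card L := by
      rw [← h1]
      exact Nat.mul_dvd_mul h2 h
    have hne : Nat.card E ^ 3 * Nat.card ↥(fx σ) ^ 3 ≠ 0 := by
      have : 0 < Nat.card E := Nat.card_pos
      have : 0 < Nat.card ↥(fx σ) := Nat.card_pos
      positivity
    have h4 := (Nat.factorization_le_iff_dvd (Nat.mul_ne_zero hne hpp.ne_zero) Nat.card_pos.ne').2 h3 p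
    rw [Nat.factorization_mul hne hpp.ne_zero, Finsupp.add_apply, hpp.factorization_self, hG] at h4
    omega
  · rw [hco.orderOf_mul_eq_mul_orderOf_of_coprime (by rw [ho1, ho2]; exact (Nat.coprime_primes hpp hrp).2 hpr), ho1, ho2]

end Cfsg.Agent.H519.TDU
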