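import Cfsg.Agent.H519.TDU.Core
import Cfsg.Agent.H167.HasSt

/-!
# The main theorem on the pair `(x, u z)` (helper519)
-/

set_option autoImplicit false

open scoped ComplexConjugate
open Cfsg Subgroup

namespace Cfsg.Agent.H519.TDU

open Cfsg.Agent.Characters Cfsg.Agent.Characters.Core Cfsg.Agent.H678.CCExact Cfsg.Agent.H686.CharKit
  Cfsg.Agent.Characters.CCCounting Cfsg.Agent.Characters.CCBasic Cfsg.Agent.Characters.CCEstimates

universe u

/-- four squares -/
theorem four_sq {ι : Type*} [Fintype ι] [DecidableEq ι] {f : ι → ℤ} {i j : ι} (hij : i ≠ j) (hi : f i = 1) (hj : f j = 1)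
    (h : ∑ k, f k ^ 2 = 4) : ∃ a b : ι, a ≠ b ∧ a ≠ i ∧ a ≠ j ∧ b ≠ i ∧ b ≠ j ∧ (f a = 1 ∨ f a = -1) ∧
      (f b = 1 ∨ f b = -1) ∧ ∀ k, f k ≠ 0 → k = i ∨ k = j ∨ k = a ∨ k = b := by
  classical
  obtain ⟨T, hT⟩ : ∃ T : Finset ι, T = (Finset.univ.filter fun k => f k ≠ 0 ∧ k ≠ i ∧ k ≠ j) := ⟨_, rfl⟩
  have hmem : ∀ k, k ∈ T ↔ f k ≠ 0 ∧ k ≠ i ∧ k ≠ j := fun k => by rw [hT]; simp
  have hsum : ∑ k ∈ T, f k ^ 2 = 2 := by
    have h1 : ∑ k, f k ^ 2 = ∑ k ∈ insert i (insert j T), f k ^ 2 := by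
      symm
      apply Finset.sum_subset (Finset.subset_univ _)
      intro k _ hk
      rw [Finset.mem_insert, Finset.mem_insert, hmem] at hk
      push Not at hk
      by_contra hne
      have h0 : f k ≠ 0 := fun h0 => hne (by rw [h0]; ring)
      exact hk.2.1 (hk.2.2 h0 hk.1)
    rw [Finset.sum_insert, Finset.sum_insert, hi, hj, h] at h1
    · linarith
    · rw [hmem]; tauto
    · rw [Finset.mem_insert, hmem]; tauto
  have hone : ∀ k ∈ T, 1 ≤ f k ^ 2 := fun k hk => by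
    have h0 := ((hmem k).1 hk).1
    have := sq_pos_of_pos (abs_pos.2 h0)
    rw [sq_abs] at this
    omega
  have hcard : (T.card : ℤ) ≤ 2 := by
    rw [← hsum]
    calc (T.card : ℤ) = ∑ k ∈ T, 1 := by simp
      _ ≤ _ := Finset.sum_le_sum hone
  have hcard' : T.card ≤ 2 := by exact_mod_cast hcard
  rcases Nat.lt_or_ge T.card 1 with h0 | h0
  · have h1 : T = ∅ := Finset.card_eq_zero.1 (by omega)
    rw [h1] at hsum
    simp at hsum
  rcases Nat.lt_or_ge T.card 2 with h2 | h2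
  · obtain ⟨a, ha⟩ := Finset.card_eq_one.1 (show T.card = 1 by omega)
    rw [ha, Finset.sum_singleton] at hsum
    exfalso
    have h3 : f a < 2 := by nlinarith
    have h4 : -2 < f a := by nlinarith
    have h5 : f a = -1 ∨ f a = 0 ∨ f a = 1 := by omega
    rcases h5 with h5 | h5 | h5 <;> rw [h5] at hsum <;> norm_num at hsum
  · obtain ⟨a, b, hab, hTab⟩ := Finset.card_eq_two.1 (show T.card = 2 by omega)
    have ha := (hmem a).1 (by rw [hTab]; simp)
    have hb := (hmem b).1 (by rw [hTab]; simp)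
    have ha1 := hone a (by rw [hTab]; simp)
    have hb1 := hone b (by rw [hTab]; simp)
    rw [hTab, Finset.sum_pair hab] at hsum
    have key : ∀ t : ℤ, t ^ 2 = 1 → t = 1 ∨ t = -1 := fun t ht => by
      rcases mul_eq_zero.1 (show (t - 1) * (t + 1) = 0 by linear_combination ht) with h | h
      · left; linarith
      · right; linarith
    refine ⟨a, b, hab, ha.2.1, ha.2.2, hb.2.1, hb.2.2, key _ (by linarith), key _ (by linarith), fun k hk => ?_⟩
    by_cases h3 : k = i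
    · exact Or.inl h3
    by_cases h4 : k = j
    · exact Or.inr (Or.inl h4)
    have h5 := (hmem k).2 ⟨hk, h3, h4⟩
    rw [hTab, Finset.mem_insert, Finset.mem_singleton] at h5
    exact Or.inr (Or.inr h5)

/-- the condition on the degrees -/
def Sieve (M Q N p r : ℕ) : Prop :=
  ∀ a b d : ℕ, a ∣ M → b ∣ M → d ∣ M → ∀ α β ε : ℤ, (α = 1 ∨ α = -1) → (β = 1 ∨ β = -1) → (ε = 1 ∨ ε = -1) →
    (N : ℤ) ∣ a - α → (N : ℤ) ∣ b - β → 1 + (Q : ℤ) + α * a + β * b = ε * d →
    r ^ 2 ∣ d ∧ (r ^ 2 ∣ a ∨ r ^ 2 ∣ b ∨ ((∃ k, a = p ^ k) ∧ ∃ k, b = p ^ k))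

theorem dvd_of_isIntegral {m d : ℕ} (hd : d ≠ 0) {ε : ℤ} (hε : ε = 1 ∨ ε = -1)
    (h : IsIntegral ℤ ((m : ℂ) * (ε : ℂ) / (d : ℂ))) : d ∣ m := by
  have h1 : (m : ℂ) * (ε : ℂ) / (d : ℂ) = algebraMap ℚ ℂ ((m : ℚ) * (ε : ℚ) / (d : ℚ)) := by
    simp
  rw [h1] at h
  have h2 : IsIntegral ℤ ((m : ℚ) * (ε : ℚ) / (d : ℚ)) :=
    (isIntegral_algebraMap_iff (FaithfulSMul.algebraMap_injective ℚ ℂ)).1 h
  obtain ⟨k, hk⟩ := IsIntegrallyClosed.isIntegral_iff.1 h2
  have hd' : (d : ℚ) ≠ 0 := by exact_mod_cast hd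
  have h3 : (m : ℚ) * ε = k * d := by
    rw [eq_div_iff hd'] at hk
    rw [← hk]
    simp
  have h4 : (m : ℤ) * ε = k * d := by exact_mod_cast h3
  have h5 : (d : ℤ) ∣ (m : ℤ) := by
    rcases hε with rfl | rfl
    · exact ⟨k, by linarith⟩
    · exact ⟨-k, by linarith⟩
  exact_mod_cast h5

variable {G : Type u} [Group G] [Finite G]

section data

variable [Fintype (IrrCharacter G)] {A : Subgroup G} {s : ℕ}

omit [Finite G] in
theorem c_zero (D : CCData A s 4) (hs : 7 ≤ s) : D.c = 0 := by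
  have h := D.sq
  have h1 : 0 ≤ ∑ ψ : IrrCharacter G, D.f ψ ^ 2 := Finset.sum_nonneg fun _ _ => sq_nonneg _
  by_contra hc
  have h2 : 1 ≤ D.c ^ 2 := by
    have := sq_pos_of_pos (abs_pos.2 hc)
    rw [sq_abs] at this
    omega
  have h3 : 2 * D.ε * D.c ≤ 2 * D.c ^ 2 := by
    rcases D.hε with h | h <;> rw [h] <;> rcases lt_or_gt_of_ne hc with h4 | h4 <;> nlinarith
  have h4 : (7 : ℤ) ≤ s := by exact_mod_cast hs
  push_cast at h
  nlinarith

end data

theorem dz {r : ℕ} [Fact r.Prime] (hr2 : (Nat.card G).factorization r = 2) {χ : IrrCharacter G}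
    (hd : r ^ 2 ∣ charDegree (χ : G → ℂ)) {y : G} (hy : r ∣ orderOf y) : (χ : G → ℂ) y = 0 := by
  have hr : r.Prime := Fact.out
  refine Cfsg.Agent.H713.irr_zero_of_singular (p := r) ?_ hy
  apply le_antisymm
  · exact (Nat.factorization_le_iff_dvd (charDegree_pos χ).ne' Nat.card_pos.ne').2 (deg_dvd χ) r
  · rw [hr2]
    exact (hr.pow_dvd_iff_le_factorization (charDegree_pos χ).ne').1 hd

/-- **Main theorem** -/
theorem main [IsSimpleGroup G] (hna : ∃ a b : G, a * b ≠ b * a) {A : Subgroup G} (hA : IsCC A) {N s : ℕ}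
    (hN : Nat.card A = N) (he : len A = 4) (hs : s * 4 + 1 = N) (h7 : 7 ≤ s) {p r : ℕ} [hp : Fact p.Prime]
    [hr : Fact r.Prime] (hst : Cfsg.Agent.H167.StChar.HasSt p G) {Q : ℕ}
    (hQ : p ^ (Nat.card G).factorization p = Q) (hpG : p ∣ Nat.card G) (hQN : (N : ℤ) ∣ Q - 1) (hpN : ¬ p ∣ N)
    (hr2 : (Nat.card G).factorization r = 2) (hS : Sieve (Nat.card G) Q N p r) {u z : G}
    (hup : p ∣ orderOf u) (hu : ¬ p ∣ (centralizer ({u} : Set G)).index) (huz : Commute u z)
    (hz : orderOf z = r) (hpy : p ∣ orderOf (u * z)) (hry : r ∣ orderOf (u * z)) {x : G} (hx : x ∈ A) (hx1 : x ≠ 1)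
    {g : G} (hg : g ≠ 1) : ∃ v w : G, g = (v * x * v⁻¹) * (w * (u * z) * w⁻¹) := by
  classical
  have := Fintype.ofFinite G
  have hfin := finite_irr (G := G)
  have : Fintype (IrrCharacter G) := Fintype.ofFinite _
  have hpp : p.Prime := Fact.out
  have hrp : r.Prime := Fact.out
  obtain ⟨D⟩ := nonempty_ccData hA he (hs.trans hN.symm) (by omega : 2 ≤ s)
  have hc0 := c_zero D h7
  have hsq := D.sq
  have hsd := D.sd
  rw [hc0] at hsq hsd
  have hsq' : ∑ ψ : IrrCharacter G, D.f ψ ^ 2 = 4 := by push_cast at hsq; linarith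
  have hsd' : ∑ ψ : IrrCharacter G, (charDegree (ψ : G → ℂ) : ℤ) * D.f ψ = D.ε * D.d := by linarith
  -- orders of the elements of `A`
  have hordA : ∀ a ∈ A, orderOf a ∣ N := fun a ha => by
    have := orderOf_dvd_natCard (⟨a, ha⟩ : A)
    rwa [← Subgroup.orderOf_coe, hN] at this
  have hconj : ∀ (t : ℕ) (y : G), ¬ t ∣ N → t ∣ orderOf y → ∀ a ∈ A, ¬ IsConj a y := by
    intro t y ht hty a ha hc
    have h1 : orderOf a = orderOf y := by
      obtain ⟨c, rfl⟩ := isConj_iff.1 hc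
      exact ((MulAut.conj c).orderOf_eq a).symm
    exact ht ((hty.trans (h1 ▸ dvd_rfl)).trans (hordA a ha))
  have hxu := hconj p u hpN hup x hx
  have hxy := hconj p (u * z) hpN hpy x hx
  have huA : ¬ InConj A u := fun ⟨a, ha, _, h⟩ => hconj p u hpN hup a ha h
  -- the Steinberg character
  obtain ⟨χ, hχ, hχ1, -⟩ := hst
  obtain ⟨St, hSt⟩ : ∃ St : IrrCharacter G, St = ⟨χ, hχ⟩ := ⟨_, rfl⟩
  have hStd : charDegree (St : G → ℂ) = Q := by
    have h1 : (charDegree (St : G → ℂ) : ℂ) = (Q : ℂ) := by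
      rw [charDegree_irr, hSt, ← hQ]
      exact hχ1
    exact_mod_cast h1
  have hQ1 : 1 < Q := by
    rw [← hQ]
    exact Nat.one_lt_pow (by
      have := (hpp.dvd_iff_one_le_factorization Nat.card_pos.ne').1 hpG
      omega) hpp.one_lt
  have hSt0 : ∀ y : G, p ∣ orderOf y → (St : G → ℂ) y = 0 := fun y hy => by
    refine Cfsg.Agent.H713.irr_zero_of_singular (p := p) ?_ hy
    rw [hStd, ← hQ, hpp.factorization_pow, Finsupp.single_eq_same]
  obtain ⟨I, hI⟩ : ∃ I : IrrCharacter G, I = ⟨1, isIrr_one⟩ := ⟨_, rfl⟩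
  have hI1 : ∀ k : G, (I : G → ℂ) k = 1 := fun k => by rw [hI]; rfl
  have hId : charDegree (I : G → ℂ) = 1 := (charDegree_eq_one_iff I).2 (hI1 1)
  have hISt : I ≠ St := by
    intro h
    rw [h, hStd] at hId
    omega
  have hIR : I ∉ D.R := fun h => by
    obtain ⟨a, -, -, h1⟩ := D.nonconst I h 1
    exact h1 (hI1 a)
  have hfI : D.f I = 1 := by
    have h1 := D.hf I hIR x hx hx1
    rw [hI1] at h1
    exact_mod_cast h1.symm
  have hN29 : (29 : ℤ) ≤ N := by
    have : 29 ≤ N := by omega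
    exact_mod_cast this
  have hdd := D.ddvd
  have hStR : St ∉ D.R := fun h => by
    have h1 := D.deg St h
    rw [hStd] at h1
    rw [hN, ← h1, hc0] at hdd
    have h2 := dvd_sub hdd hQN
    push_cast at h2
    rcases D.hε with h3 | h3
    · rw [h3] at h2
      have h4 : (Q : ℤ) - (1 * 4 + 0) - (Q - 1) = -3 := by ring
      rw [h4, dvd_neg] at h2
      have := Int.le_of_dvd (by norm_num) h2
      omega
    · rw [h3] at h2
      have h4 : (Q : ℤ) - (-1 * 4 + 0) - (Q - 1) = 5 := by ring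
      rw [h4] at h2
      have := Int.le_of_dvd (by norm_num) h2
      omega
  have hle4 : ∀ k : IrrCharacter G, D.f k ^ 2 ≤ 4 := fun k => by
    rw [← hsq']
    exact Finset.single_le_sum (f := fun k => D.f k ^ 2) (fun _ _ => sq_nonneg _) (Finset.mem_univ k)
  have hfSt : D.f St = 1 := by
    have h1 := D.dvd St hStR
    rw [hN, hStd] at h1
    have h2 := dvd_sub hQN h1
    have h3 : (Q : ℤ) - 1 - (Q - D.f St) = D.f St - 1 := by ring
    rw [h3] at h2
    have h4 := hle4 St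
    have h5 : D.f St ≤ 2 := by nlinarith
    have h6 : -2 ≤ D.f St := by nlinarith
    have h7 := Int.eq_zero_of_abs_lt_dvd h2 (by rw [abs_lt]; omega)
    omega
  obtain ⟨a, b, hab, haI, haS, hbI, hbS, hfa, hfb, hall⟩ := four_sq hISt hfI hfSt hsq'
  have hfa0 : D.f a ≠ 0 := by rcases hfa with h | h <;> rw [h] <;> norm_num
  have hfb0 : D.f b ≠ 0 := by rcases hfb with h | h <;> rw [h] <;> norm_num
  have haR : a ∉ D.R := fun h => hfa0 (D.hf0 a h)
  have hbR : b ∉ D.R := fun h => hfb0 (D.hf0 b h)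
  have ha1 : (a : G → ℂ) ≠ 1 := fun h => haI (Subtype.ext (by rw [h, hI]))
  have hb1 : (b : G → ℂ) ≠ 1 := fun h => hbI (Subtype.ext (by rw [h, hI]))
  have hsum : ∀ {M : Type} [AddCommMonoid M] (F : IrrCharacter G → M), (∀ χ : IrrCharacter G, D.f χ = 0 → F χ = 0) →
      ∑ χ : IrrCharacter G, F χ = F I + (F St + (F a + F b)) := by
    intro M _ F hF
    have h1 : ∑ χ : IrrCharacter G, F χ = ∑ χ ∈ ({I, St, a, b} : Finset (IrrCharacter G)), F χ := by
      symm
      apply Finset.sum_subset (Finset.subset_univ _)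
      intro k _ hk
      apply hF
      by_contra h0
      apply hk
      simp only [Finset.mem_insert, Finset.mem_singleton]
      exact hall k h0
    rw [h1, Finset.sum_insert, Finset.sum_insert, Finset.sum_pair hab]
    · simp only [Finset.mem_insert, Finset.mem_singleton, not_or]
      exact ⟨haS.symm, hbS.symm⟩
    · simp only [Finset.mem_insert, Finset.mem_singleton, not_or]
      exact ⟨hISt, haI.symm, hbI.symm⟩
  -- the degree equation
  have hdeg : 1 + (Q : ℤ) + D.f a * charDegree (a : G → ℂ) + D.f b * charDegree (b : G → ℂ) = D.ε * D.d := by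
    rw [← hsd', hsum (fun ψ => (charDegree (ψ : G → ℂ) : ℤ) * D.f ψ) (fun χ h => by rw [h, mul_zero]), hId, hStd, hfI, hfSt]
    push_cast
    ring
  obtain ⟨ψ₀, hψ₀⟩ : ∃ ψ, ψ ∈ D.R := Finset.card_pos.1 (by rw [D.hcard]; omega)
  have hd0 : D.d ≠ 0 := by
    rw [← D.deg ψ₀ hψ₀]
    exact (charDegree_pos ψ₀).ne'
  obtain ⟨hrd, htri⟩ := hS _ _ _ (deg_dvd a) (deg_dvd b) (by rw [← D.deg ψ₀ hψ₀]; exact deg_dvd ψ₀) (D.f a) (D.f b) D.ε
    hfa hfb D.hε (by rw [← hN]; exact D.dvd a haR) (by rw [← hN]; exact D.dvd b hbR) hdeg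
  have hRy : ∀ ψ ∈ D.R, (ψ : G → ℂ) (u * z) = 0 := fun ψ hψ => dz hr2 (by rw [D.deg ψ hψ]; exact hrd) hry
  -- the general conclusion
  have hfin : ∀ k l : IrrCharacter G, k ∉ D.R → (k : G → ℂ) ≠ 1 → (l : G → ℂ) (u * z) = 0 →
      (∀ m : IrrCharacter G, D.f m ≠ 0 → m = I ∨ m = St ∨ m = k ∨ m = l) →
      ∃ v w : G, g = (v * x * v⁻¹) * (w * (u * z) * w⁻¹) := by
    intro k l hkR hk1 hl hm
    refine prod_of_two hxy k hk1 ?_ (fun m => ?_) hg
    · rw [D.hf k hkR x hx hx1, map_intCast]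
    · by_cases hmR : m ∈ D.R
      · exact Or.inr (Or.inl (hRy m hmR))
      by_cases hm0 : D.f m = 0
      · left
        rw [D.hf m hmR x hx hx1, hm0, Int.cast_zero]
      rcases hm m hm0 with h | h | h | h
      · right; right; left
        rw [h, hI]
      · right; left
        rw [h]
        exact hSt0 _ hpy
      · exact Or.inr (Or.inr (Or.inr h))
      · right; left
        rw [h, hl]
  rcases htri with h | h | ⟨⟨k, hk⟩, ⟨l, hl⟩⟩
  · exact hfin b a hbR hb1 (dz hr2 h hry) fun m hm => by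
      rcases hall m hm with h | h | h | h
      · exact Or.inl h
      · exact Or.inr (Or.inl h)
      · exact Or.inr (Or.inr (Or.inr h))
      · exact Or.inr (Or.inr (Or.inl h))
  · exact hfin a b haR ha1 (dz hr2 h hry) hall
  · exfalso
    have hu1 : u ≠ 1 := by
      rintro rfl
      rw [orderOf_one] at hup
      exact hpp.one_lt.ne' (Nat.dvd_one.1 hup)
    have hcop : ∀ k : ℕ, Nat.Coprime (p ^ k) (centralizer ({u} : Set G)).index := fun k =>
      Nat.Coprime.pow_left k ((hpp.coprime_iff_not_dvd).2 hu)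
    have hau : (a : G → ℂ) u = 0 :=
      (burn a (g := u) (by rw [hk]; exact hcop k)).resolve_right (norm_lt hna a ha1 hu1)
    have hbu : (b : G → ℂ) u = 0 :=
      (burn b (g := u) (by rw [hl]; exact hcop l)).resolve_right (norm_lt hna b hb1 hu1)
    -- splitting the column sums
    have hcol : ∀ y : G, ¬ InConj A y → ∑ χ : IrrCharacter G, (χ : G → ℂ) x * conj ((χ : G → ℂ) y) =
        (∑ ψ ∈ D.R, (ψ : G → ℂ) x) * conj ((ψ₀ : G → ℂ) y) + ∑ χ : IrrCharacter G, (D.f χ : ℂ) * conj ((χ : G → ℂ) y) := by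
      intro y hy
      rw [← Finset.sum_filter_add_sum_filter_not Finset.univ (fun ψ => ψ ∈ D.R),
        ← Finset.sum_filter_add_sum_filter_not (f := fun χ : IrrCharacter G => (D.f χ : ℂ) * conj ((χ : G → ℂ) y))
          Finset.univ (fun ψ => ψ ∈ D.R)]
      have e1 : Finset.univ.filter (fun ψ => ψ ∈ D.R) = D.R := by ext; simp
      rw [e1, Finset.sum_mul]
      have e2 : ∑ χ ∈ D.R, (D.f χ : ℂ) * conj ((χ : G → ℂ) y) = 0 :=
        Finset.sum_eq_zero fun χ hχ => by rw [D.hf0 χ hχ, Int.cast_zero, zero_mul]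
      rw [e2, zero_add]
      congr 1
      · exact Finset.sum_congr rfl fun ψ hψ => by rw [D.agree ψ hψ ψ₀ hψ₀ y hy]
      · exact Finset.sum_congr rfl fun ψ hψ => by
          rw [D.hf ψ (Finset.mem_filter.1 hψ).2 x hx hx1]
    have hS1 : ∑ ψ ∈ D.R, (ψ : G → ℂ) x = -D.ε := by
      have h1 := hcol 1 (one_not_inConj A)
      have hx1' : ¬ IsConj x 1 := fun h => hx1 (isConj_one_left.1 h)
      rw [col_zero hx1'] at h1
      have h2 : ∑ χ : IrrCharacter G, (D.f χ : ℂ) * conj ((χ : G → ℂ) 1) = D.ε * D.d := by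
        have h3 : ((∑ ψ : IrrCharacter G, (charDegree (ψ : G → ℂ) : ℤ) * D.f ψ : ℤ) : ℂ) = ((D.ε * D.d : ℤ) : ℂ) := by
          rw [hsd']
        push_cast at h3
        rw [← h3]
        exact Finset.sum_congr rfl fun χ _ => by
          rw [← charDegree_irr, Complex.conj_natCast]; ring
      rw [h2, ← charDegree_irr, D.deg ψ₀ hψ₀, Complex.conj_natCast] at h1
      have hd0' : (D.d : ℂ) ≠ 0 := by exact_mod_cast hd0
      have h3 : (D.d : ℂ) * (∑ ψ ∈ D.R, (ψ : G → ℂ) x + D.ε) = 0 := by linear_combination -h1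
      rcases mul_eq_zero.1 h3 with h4 | h4
      · exact absurd h4 hd0'
      · linear_combination h4
    have hψu : (ψ₀ : G → ℂ) u = D.ε := by
      have h1 := hcol u huA
      rw [col_zero hxu, hS1, hsum (fun χ => (D.f χ : ℂ) * conj ((χ : G → ℂ) u)) (fun χ h => by
        rw [h, Int.cast_zero, zero_mul]), hau, hbu, hSt0 u hup, hI1, hfI] at h1
      simp only [map_zero, mul_zero, add_zero, map_one, Int.cast_one, mul_one] at h1
      have h2 : conj ((ψ₀ : G → ℂ) u) = D.ε := by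
        rcases D.hε with h3 | h3 <;> rw [h3] at h1 ⊢ <;> push_cast at h1 ⊢
        · linear_combination h1
        · linear_combination -h1
      have h3 := congrArg conj h2
      rw [Complex.conj_conj, map_intCast] at h3
      exact h3
    have hint := centralInt ψ₀ u
    rw [hψu, ← charDegree_irr, D.deg ψ₀ hψ₀] at hint
    have hdi := dvd_of_isIntegral hd0 D.hε hint
    have h1 : r ∣ Nat.card ↥(centralizer ({u} : Set G)) := by
      have hzc : z ∈ centralizer ({u} : Set G) := mem_centralizer_singleton_iff.2 huz.eq.symm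
      have := orderOf_dvd_natCard (⟨z, hzc⟩ : ↥(centralizer ({u} : Set G)))
      rwa [← Subgroup.orderOf_coe, hz] at this
    have h2 : r ^ 3 ∣ Nat.card G := by
      rw [← (centralizer ({u} : Set G)).card_mul_index, pow_succ']
      exact Nat.mul_dvd_mul h1 (hrd.trans hdi)
    have h3 := (hrp.pow_dvd_iff_le_factorization Nat.card_pos.ne').1 h2
    omega

end Cfsg.Agent.H519.TDU
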